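import Groth.Agent.GrLib8.LeffExt.Main
import Groth.Agent.Pi1Ext.ExtZorn
import Groth.Agent.CILib.Basic
import Groth.Agent.S0238
import Groth.Agent.S0247
import Groth.Agent.S0272
import Groth.Agent.S2947

/-!
# Restriction to `Y` is an equivalence under `Leff` and purity at the complement
-/

set_option autoImplicit false
set_option linter.style.haveILetI false
set_option backward.isDefEq.respectTransparency false
set_option backward.isDefEq.respectTransparency.types false

universe u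

open CategoryTheory CategoryTheory.Limits AlgebraicGeometry TopologicalSpace Opposite

noncomputable section

namespace Groth.Agent.GrLib8.LeffExt

open Groth.Agent

/-- An absolute complete intersection is a complete intersection. -/
theorem isCompleteIntersection_of_abs (A : Type u) [CommRing A] [IsLocalRing A]
    (h : SGA2.IsAbsCompleteIntersection A) : Pi1.IsCompleteIntersection A := by
  obtain ⟨B, _, _, rs, -, hreg, ⟨e⟩⟩ := h
  let π : B →+* A := e.symm.toRingHom.comp (Ideal.Quotient.mk _)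
  refine (CILib.isCI_iff_regular π (e.symm.surjective.comp Ideal.Quotient.mk_surjective)).2 ⟨rs, hreg, ?_⟩
  ext x
  rw [RingHom.mem_ker]
  show e.symm (Ideal.Quotient.mk _ x) = 0 ↔ _
  rw [map_eq_zero_iff e.symm e.symm.injective, Ideal.Quotient.eq_zero_iff_mem]

/-- An open set containing all points with zero-dimensional local ring is dense. -/
theorem dense_of_dim_zero_mem {X : Scheme.{u}} (U : X.Opens)
    (h : ∀ x : X, x ∉ U → ringKrullDim (X.presheaf.stalk x) ≠ 0) : Dense (U : Set X) := by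
  rw [dense_iff_inter_open]
  intro O hO ⟨x, hx⟩
  obtain ⟨_, ⟨W, hW, rfl⟩, hxW, hWO⟩ := X.isBasis_affineOpens.exists_subset_of_mem_open hx hO
  obtain ⟨p, hp, -⟩ := Ideal.exists_minimalPrimes_le
    (show (⊥ : Ideal Γ(X, W)) ≤ (hW.primeIdealOf ⟨x, hxW⟩).asIdeal from bot_le)
  let q : PrimeSpectrum Γ(X, W) := ⟨p, hp.1.1⟩
  haveI hq : q.asIdeal.IsPrime := hp.1.1
  have hy : hW.fromSpec q ∈ W := hW.range_fromSpec.le ⟨q, rfl⟩
  refine ⟨hW.fromSpec q, hWO hy, by_contra fun hn => h _ hn ?_⟩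
  letI : Algebra Γ(X, W) (X.presheaf.stalk (hW.fromSpec q)) :=
    X.presheaf.algebra_section_stalk ⟨hW.fromSpec q, hy⟩
  haveI : IsLocalization.AtPrime (X.presheaf.stalk (hW.fromSpec q)) q.asIdeal := hW.isLocalization_stalk' q hy
  rw [IsLocalization.AtPrime.ringKrullDim_eq_height q.asIdeal (X.presheaf.stalk (hW.fromSpec q))]
  have h0 : q.asIdeal.height = 0 :=
    Ideal.height_eq_zero_iff.2 (show p ∈ minimalPrimes Γ(X, W) from hp)
  rw [h0]
  rfl

variable {X : Scheme.{u}} [IsLocallyNoetherian X] (𝓘 : X.IdealSheafData)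

/-- Restriction to `Y` is fully faithful under `Lef(X, Y)`. -/
theorem full_faithful_restrict (h : Lef.LefCond X 𝓘) :
    (FEt.restrict 𝓘.subschemeι).Full ∧ (FEt.restrict 𝓘.subschemeι).Faithful := by
  obtain ⟨hF, hG⟩ := S2947.result X 𝓘 h ⊤ (by simp)
  obtain ⟨κ, hκ, hκw⟩ := exists_kappa (U := (⊤ : X.Opens)) (I := 𝓘) (by simp) rfl
  haveI := hκ
  haveI : IsIso (⊤ : X.Opens).ι := by rw [← Scheme.topIso_hom]; infer_instance
  haveI : Surjective (⊤ : X.Opens).ι := inferInstance
  haveI : IsClosedImmersion (⊤ : X.Opens).ι := inferInstance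
  haveI := S0238.result (⊤ : X.Opens).ι
  haveI := S0238.result κ
  let i1 : FEt.restrict (κ ≫ 𝓘.subschemeι) ≅ FEt.restrict 𝓘.subschemeι ⋙ FEt.restrict κ :=
    MorphismProperty.Over.pullbackComp κ 𝓘.subschemeι _ rfl
  let i2 : FEt.restrict (κ ≫ 𝓘.subschemeι) ≅
      FEt.restrict (⊤ : X.Opens).ι ⋙ FEt.restrict (𝓘.comap (⊤ : X.Opens).ι).subschemeι :=
    MorphismProperty.Over.pullbackComp _ _ _ hκw
  haveI : (FEt.restrict 𝓘.subschemeι ⋙ FEt.restrict κ).Full := Functor.Full.of_iso (i2.symm ≪≫ i1)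
  haveI : (FEt.restrict 𝓘.subschemeι ⋙ FEt.restrict κ).Faithful := Functor.Faithful.of_iso (i2.symm ≪≫ i1)
  exact ⟨Functor.Full.of_comp_faithful (FEt.restrict 𝓘.subschemeι) (FEt.restrict κ),
    Functor.Faithful.of_comp (FEt.restrict 𝓘.subschemeι) (FEt.restrict κ)⟩

/-- Restriction to `Y` is an equivalence. -/
theorem isEquivalence_restrict (h : LefX.LeffCond X 𝓘)
    (hpur : ∀ U : X.Opens, (𝓘.support : Set X) ⊆ (U : Set X) → ∀ x : X, x ∉ U →
      (IsRegularLocalRing (X.presheaf.stalk x) ∧ (2 : WithBot ℕ∞) ≤ ringKrullDim (X.presheaf.stalk x)) ∨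
      (SGA2.IsAbsCompleteIntersection (X.presheaf.stalk x) ∧ (3 : WithBot ℕ∞) ≤ ringKrullDim (X.presheaf.stalk x))) :
    (FEt.restrict 𝓘.subschemeι).IsEquivalence := by
  obtain ⟨hF, hG⟩ := full_faithful_restrict 𝓘 h.1
  haveI : (FEt.restrict 𝓘.subschemeι).EssSurj := by
    refine ⟨fun R => ?_⟩
    obtain ⟨U, R', hU, hR⟩ := exists_extension X 𝓘 h R
    have hd : Dense (U : Set X) := dense_of_dim_zero_mem U fun x hx h0 => by
      rcases hpur U hU x hx with ⟨-, h2⟩ | ⟨-, h3⟩
      · rw [h0] at h2; exact absurd h2 (by decide)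
      · rw [h0] at h3; exact absurd h3 (by decide)
    obtain ⟨Y', ⟨e⟩⟩ := Pi1Ext.ExtZorn.exists_extension (Y := R') hd fun a x hx hmin => by
      refine Pi1Ext.Spread.exists_local_extension a.O a.E x ?_ hx hmin
      rcases hpur U hU x fun hxU => hx (a.le hxU) with ⟨hreg, h2⟩ | ⟨hci, h3⟩
      · haveI := hreg
        exact S0247.result _ h2
      · exact S0272.result _ (isCompleteIntersection_of_abs _ hci) h3
    have hrange : Set.range 𝓘.subschemeι ⊆ Set.range U.ι := by
      rw [Scheme.IdealSheafData.range_subschemeι, Scheme.Opens.range_ι]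
      exact hU
    let i := IsOpenImmersion.lift U.ι 𝓘.subschemeι hrange
    have hi : i ≫ U.ι = 𝓘.subschemeι := IsOpenImmersion.lift_fac _ _ _
    obtain ⟨e'⟩ := hR i hi
    exact ⟨Y', ⟨Pi1Ext.Spread.restrictComp i U.ι 𝓘.subschemeι hi.symm Y' ≪≫
      (FEt.restrict i).mapIso e ≪≫ e'⟩⟩
  exact { faithful := hG, full := hF, essSurj := inferInstance }

end Groth.Agent.GrLib8.LeffExt
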