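import Groth.Agent.GrLib8.LeffExt.Sys
import Groth.Agent.Pi1Ext.FAlg.EtAlg
import Groth.Agent.Pi1Ext.BranchSch
import Groth.Agent.QCoh.DevissageP
import Groth.Agent.Pi1Ext.FAlg.Fibre

/-!
# A finite morphism étale on all neighbourhoods of a closed subscheme is étale near it
-/

set_option autoImplicit false
set_option linter.style.haveILetI false
set_option linter.unusedSectionVars false
set_option linter.overlappingInstances false
set_option backward.isDefEq.respectTransparency false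
set_option backward.isDefEq.respectTransparency.types false

universe u

open CategoryTheory CategoryTheory.Limits AlgebraicGeometry TopologicalSpace Opposite
open scoped TensorProduct

noncomputable section

namespace Groth.Agent.GrLib8.LeffExt

open Groth.Agent Groth.Agent.Pi1Ext

variable {X W : Scheme.{u}} (J : X.IdealSheafData) (π : W ⟶ X) [IsAffineHom π]

/-- The truncated algebra of a cover étale on a neighbourhood is étale. -/
theorem etale_trunc (n : ℕ) (h : Etale (pullback.snd π (ιZ J n))) (U : X.affineOpens) :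
    letI := (π.appLE U.1 (π ⁻¹ᵁ U.1) le_rfl).hom.toAlgebra
    RingHom.Etale (algebraMap (Γ(X, U.1) ⧸ (J.ideal U) ^ (n + 1))
      (Γ(W, π ⁻¹ᵁ U.1) ⧸ ((J.ideal U) ^ (n + 1)).map (algebraMap Γ(X, U.1) Γ(W, π ⁻¹ᵁ U.1)))) := by
  letI := (π.appLE U.1 (π ⁻¹ᵁ U.1) le_rfl).hom.toAlgebra
  let j := ιZ J n
  let i := pullback.fst π j
  let s := pullback.snd π j
  haveI : IsClosedImmersion i := MorphismProperty.pullback_fst _ _ inferInstance
  have hVa : IsAffineOpen (π ⁻¹ᵁ U.1) := U.2.preimage π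
  have hle : i ⁻¹ᵁ (π ⁻¹ᵁ U.1) ≤ s ⁻¹ᵁ (j ⁻¹ᵁ U.1) := by
    rw [← Scheme.Hom.comp_preimage, ← Scheme.Hom.comp_preimage, pullback.condition]
  have hc : π.appLE U.1 (π ⁻¹ᵁ U.1) le_rfl ≫ i.app (π ⁻¹ᵁ U.1) = j.app U.1 ≫ s.appLE _ _ hle := by
    rw [Scheme.Hom.app_eq_appLE, Scheme.Hom.app_eq_appLE, Scheme.Hom.appLE_comp_appLE, Scheme.Hom.appLE_comp_appLE]
    congr 1
    exact pullback.condition
  have hpow : (J ^ (n + 1)).ideal U = (J.ideal U) ^ (n + 1) := by
    rw [Scheme.IdealSheafData.ideal_pow, Pi.pow_apply]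
  refine FAlg.quotientMap_of_surjective (fun f => RingHom.Etale f) RingHom.Etale.respectsIso _ (j.app U.1).hom
    (i.app (π ⁻¹ᵁ U.1)).hom (s.appLE _ _ hle).hom (congrArg CommRingCat.Hom.hom hc)
    (j.app_surjective _ U.2) ?_ (i.app_surjective _ hVa) ?_ ?_
  · rw [← FComplLib.ideal_ker j U, Scheme.IdealSheafData.ker_subschemeι, hpow]
  · rw [← FComplLib.ideal_ker i ⟨_, hVa⟩, FComplLib.ker_of_isPullback (IsPullback.of_hasPullback π j),
      Scheme.IdealSheafData.ker_subschemeι, ModPairLib.ideal_comap _ π U ⟨_, hVa⟩ le_rfl, hpow]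
    rfl
  · exact HasRingHomProperty.appLE @Etale s h ⟨_, U.2.preimage j⟩ ⟨_, hVa.preimage i⟩ hle

theorem flat_truncation (n : ℕ) (h : ∀ n, Etale (pullback.snd π (ιZ J n))) (U : X.affineOpens) :
    letI := (π.appLE U.1 (π ⁻¹ᵁ U.1) le_rfl).hom.toAlgebra
    Module.Flat (Γ(X, U.1) ⧸ (J.ideal U) ^ n)
      ((Γ(X, U.1) ⧸ (J.ideal U) ^ n) ⊗[Γ(X, U.1)] Γ(W, π ⁻¹ᵁ U.1)) := by
  letI := (π.appLE U.1 (π ⁻¹ᵁ U.1) le_rfl).hom.toAlgebra
  cases n with
  | zero =>
    haveI : Subsingleton (Γ(X, U.1) ⧸ (J.ideal U) ^ 0) := by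
      rw [Ideal.Quotient.subsingleton_iff, pow_zero, Ideal.one_eq_top]
    haveI := Module.subsingleton (Γ(X, U.1) ⧸ (J.ideal U) ^ 0)
      ((Γ(X, U.1) ⧸ (J.ideal U) ^ 0) ⊗[Γ(X, U.1)] Γ(W, π ⁻¹ᵁ U.1))
    infer_instance
  | succ n =>
    refine FAlg.flat_truncation_tensor _ ?_
    have he := etale_trunc J π n (h n) U
    haveI := RingHom.etale_algebraMap.mp he
    exact RingHom.flat_algebraMap_iff.mpr inferInstance

theorem ideal_le_prime {x : X} (hx : x ∈ (J.support : Set X)) {U : X.Opens} (hU : IsAffineOpen U) (hxU : x ∈ U) :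
    J.ideal ⟨U, hU⟩ ≤ (hU.primeIdealOf ⟨x, hxU⟩).asIdeal := by
  intro a ha
  by_contra hn
  rw [SetLike.mem_coe, Scheme.IdealSheafData.mem_support_iff_of_mem (U := ⟨U, hU⟩) hxU, Scheme.mem_zeroLocus_iff] at hx
  exact hx a ha ((QCoh.mem_basicOpen_iff_notMem hU hxU _).2 hn)

variable [IsLocallyNoetherian X] [IsFinite π]

theorem exists_flat_nhd (h : ∀ n, Etale (pullback.snd π (ιZ J n)))
    {x : X} (hx : x ∈ (J.support : Set X)) :
    ∃ U : X.affineOpens, x ∈ U.1 ∧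
      (letI := (π.appLE U.1 (π ⁻¹ᵁ U.1) le_rfl).hom.toAlgebra; Module.Flat Γ(X, U.1) Γ(W, π ⁻¹ᵁ U.1)) := by
  obtain ⟨_, ⟨U, hU, rfl⟩, hxU, -⟩ :=
    X.isBasis_affineOpens.exists_subset_of_mem_open (Set.mem_univ x) isOpen_univ
  let B := Γ(X, U)
  let C := Γ(W, π ⁻¹ᵁ U)
  letI iBC : Algebra B C := (π.appLE U (π ⁻¹ᵁ U) le_rfl).hom.toAlgebra
  haveI : IsNoetherianRing B := IsLocallyNoetherian.component_noetherian ⟨U, hU⟩
  haveI : Module.Finite B C := by
    have hf := IsFinite.finite_app π U hU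
    rw [Scheme.Hom.app_eq_appLE] at hf
    exact hf
  haveI : Module.FinitePresentation B C := Module.finitePresentation_of_finite _ _
  let p := hU.primeIdealOf ⟨x, hxU⟩
  have hmem := FAlg.mem_freeLocus_of_truncations C (J.ideal ⟨U, hU⟩)
    (fun n => flat_truncation J π n h ⟨U, hU⟩) p (ideal_le_prime J hx hU hxU)
  obtain ⟨_, ⟨f, rfl⟩, hpf, hf⟩ :=
    PrimeSpectrum.isTopologicalBasis_basic_opens.exists_subset_of_mem_open hmem Module.isOpen_freeLocus
  have hxf : x ∈ X.basicOpen f := (QCoh.mem_basicOpen_iff_notMem hU hxU f).2 hpf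
  refine ⟨⟨X.basicOpen f, hU.basicOpen f⟩, hxf, ?_⟩
  let B' := Γ(X, X.basicOpen f)
  let C' := Γ(W, π ⁻¹ᵁ X.basicOpen f)
  letI i1 : Algebra B B' := (X.presheaf.map (homOfLE (X.basicOpen_le f)).op).hom.toAlgebra
  letI i2 : Algebra C C' := (W.presheaf.map (homOfLE (π.preimage_mono (X.basicOpen_le f))).op).hom.toAlgebra
  letI i3 : Algebra B' C' := (π.appLE (X.basicOpen f) (π ⁻¹ᵁ X.basicOpen f) le_rfl).hom.toAlgebra
  letI i4 : Algebra B C' := (π.appLE U (π ⁻¹ᵁ X.basicOpen f) (π.preimage_mono (X.basicOpen_le f))).hom.toAlgebra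
  haveI : IsScalarTower B C C' := IsScalarTower.of_algebraMap_eq' (congrArg CommRingCat.Hom.hom
    (Scheme.Hom.appLE_map π le_rfl (homOfLE (π.preimage_mono (X.basicOpen_le f))).op).symm)
  haveI : IsScalarTower B B' C' := IsScalarTower.of_algebraMap_eq' (congrArg CommRingCat.Hom.hom
    (Scheme.Hom.map_appLE π le_rfl (homOfLE (X.basicOpen_le f)).op).symm)
  haveI : IsLocalization.Away f B' := hU.isLocalization_basicOpen f
  haveI : IsLocalization.Away (algebraMap B C f) C' := by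
    refine (hU.preimage π).isLocalization_of_eq_basicOpen _ (homOfLE (π.preimage_mono (X.basicOpen_le f))) ?_
    rw [Scheme.preimage_basicOpen π f, Scheme.Hom.app_eq_appLE]
    rfl
  exact FAlg.flat_away_of_subset_freeLocus f hf B' C'

theorem exists_etale_nhd_of_thick (h : ∀ n, Etale (pullback.snd π (ιZ J n)))
    {w : W} (hw : π w ∈ (J.support : Set X)) : ∃ V : W.Opens, w ∈ V ∧ Etale (V.ι ≫ π) := by
  obtain ⟨⟨U, hU⟩, hxU, hflat⟩ := exists_flat_nhd J π h hw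
  let V := π ⁻¹ᵁ U
  have hV : IsAffineOpen V := hU.preimage π
  refine BranchSch.exists_etale_of_isEtaleAt π hU hV le_rfl w hxU ?_
  let B := Γ(X, U)
  let C := Γ(W, V)
  letI iBC : Algebra B C := (π.appLE U V le_rfl).hom.toAlgebra
  haveI : IsNoetherianRing B := IsLocallyNoetherian.component_noetherian ⟨U, hU⟩
  haveI : Module.Finite B C := by
    have hf := IsFinite.finite_app π U hU
    rw [Scheme.Hom.app_eq_appLE] at hf
    exact hf
  haveI : Algebra.FinitePresentation B C := Algebra.FinitePresentation.of_finiteType.mp inferInstance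
  refine ⟨inferInstance, ?_⟩
  haveI : Module.Flat B C := hflat
  let K := J.ideal ⟨U, hU⟩
  have he : RingHom.Etale (algebraMap (B ⧸ K) (C ⧸ K.map (algebraMap B C))) := by
    have h1 := etale_trunc J π 0 (h 0) ⟨U, hU⟩
    have e : (J.ideal ⟨U, hU⟩) ^ (0 + 1) = K := by rw [zero_add, pow_one]
    revert h1
    generalize (J.ideal ⟨U, hU⟩) ^ (0 + 1) = K' at e
    subst e
    exact id
  haveI : Algebra.Etale (B ⧸ K) (C ⧸ K.map (algebraMap B C)) := RingHom.etale_algebraMap.mp he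
  refine Groth.Agent.Hensel.isEtaleAt_of_etale_quotient K _ (Ideal.map_le_iff_le_comap.mpr ?_)
  have hq : (hV.primeIdealOf ⟨w, hxU⟩).asIdeal.comap (algebraMap B C) = (hU.primeIdealOf ⟨π w, hxU⟩).asIdeal :=
    congr($(IsAffineOpen.comap_primeIdealOf_appLE U hU V hV le_rfl hxU).1)
  rw [hq]
  exact ideal_le_prime J hw hU hxU

/-- Étaleness spreads to an open neighbourhood. -/
theorem exists_etale_over_nhd (h : ∀ n, Etale (pullback.snd π (ιZ J n))) :
    ∃ V : X.Opens, (J.support : Set X) ⊆ V ∧ Etale (π ∣_ V) := by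
  let S : Set W := {w | ∃ O : W.Opens, w ∈ O ∧ Etale (O.ι ≫ π)}
  have hS : IsOpen S := by
    rw [isOpen_iff_forall_mem_open]
    rintro w ⟨O, hwO, hO⟩
    exact ⟨O, fun z hz => ⟨O, hz, hO⟩, O.isOpen, hwO⟩
  let V : X.Opens := ⟨(π '' Sᶜ)ᶜ, (π.isClosedMap _ hS.isClosed_compl).isOpen_compl⟩
  refine ⟨V, fun x hx hxV => ?_, ?_⟩
  · obtain ⟨w, hw, rfl⟩ := hxV
    exact hw (exists_etale_nhd_of_thick J π h hx)
  have hmem : ∀ w : (π ⁻¹ᵁ V : W.Opens), ∃ O : W.Opens, w.1 ∈ O ∧ Etale (O.ι ≫ π) := fun w => by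
    by_contra hn
    exact (show π w.1 ∈ V from w.2) ⟨w.1, hn, rfl⟩
  choose O hO hOet using hmem
  have h2 : Etale ((π ⁻¹ᵁ V).ι ≫ π) := by
    refine IsZariskiLocalAtSource.of_openCover
      ((π ⁻¹ᵁ V : W.Opens).toScheme.openCoverOfIsOpenCover (fun w => (π ⁻¹ᵁ V).ι ⁻¹ᵁ O w)
        (TopologicalSpace.IsOpenCover.mk (eq_top_iff.2 fun w _ => Opens.mem_iSup.2 ⟨w, hO w⟩))) fun w => ?_
    show Etale (((π ⁻¹ᵁ V).ι ⁻¹ᵁ O w).ι ≫ (π ⁻¹ᵁ V).ι ≫ π)
    haveI := hOet w
    rw [← morphismRestrict_ι_assoc]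
    infer_instance
  rw [← morphismRestrict_ι] at h2
  haveI := h2
  exact Etale.of_comp (π ∣_ V) V.ι

end Groth.Agent.GrLib8.LeffExt
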