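import Groth.Agent.GrLib8.LeffExt.Mod
import Groth.Agent.SheafHomY.Bidual
import Groth.Agent.SheafHomY.Ext
import Groth.Agent.H9Misc.LocFreeHomTensor
import Groth.Agent.KFlatLib.Perfect.Tensor
import Groth.Agent.Lib.CurvePoint

/-!
# Maps of finite locally free modules into the algebraisation
-/

set_option autoImplicit false
set_option linter.style.haveILetI false
set_option linter.unusedSectionVars false
set_option backward.isDefEq.respectTransparency false
set_option backward.isDefEq.respectTransparency.types false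
set_option maxHeartbeats 400000

universe u

open CategoryTheory CategoryTheory.Limits AlgebraicGeometry TopologicalSpace Opposite

noncomputable section

namespace Groth.Agent.GrLib8.LeffExt

open Groth.Agent Groth.Agent.SheafHomY

variable {X : Scheme.{u}} [IsLocallyNoetherian X] {J : X.IdealSheafData}

theorem isFinLocFree_ten {N D : X.Modules} (hN : FlatMod.IsFinLocFree N) (hD : FlatMod.IsFinLocFree D) :
    FlatMod.IsFinLocFree ((SheafHomX.ten D).obj N) := by
  simp only [Functor.flip_obj_obj]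
  exact KFlatLib.isFinLocFree_tensor hN hD

namespace FSys.Alg

variable {S : FSys J} (R : S.Alg)

theorem isQCoh_G (n : ℕ) : Coh.IsQCoh (S.G n) :=
  QCoh.isQCoh_pushforward (S.b n) QCoh.isQCoh_structureModule

theorem epi_r (n : ℕ) : Epi (R.r n) :=
  PPSheaf.epi_of_surjective_cover (isQCoh_G n) _ fun x => by
    obtain ⟨_, ⟨W, hW, rfl⟩, hxW, -⟩ :=
      X.isBasis_affineOpens.exists_subset_of_mem_open (Set.mem_univ x) isOpen_univ
    exact ⟨W, hW, hxW, R.surj n W hW⟩

/-- The projection, read on the neighbourhood. -/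
def r' (n : ℕ) : R.E ⟶ (Scheme.Modules.pushforward (ιZ J n)).obj (S.F n) :=
  R.r n ≫ (Scheme.Modules.pushforwardComp (S.a n) (ιZ J n)).inv.app _

/-- Its adjunct. -/
def gam (n : ℕ) : (Scheme.Modules.pullback (ιZ J n)).obj R.E ⟶ S.F n :=
  ((Scheme.Modules.pullbackPushforwardAdjunction (ιZ J n)).homEquiv _ _).symm (R.r' n)

theorem unit_gam (n : ℕ) : (Scheme.Modules.pullbackPushforwardAdjunction (ιZ J n)).unit.app R.E ≫
    (Scheme.Modules.pushforward (ιZ J n)).map (R.gam n) = R.r' n :=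
  ((Scheme.Modules.pullbackPushforwardAdjunction (ιZ J n)).homEquiv_unit _ _ _).symm.trans
    (Equiv.apply_symm_apply _ _)

theorem isIso_gam (n : ℕ) : IsIso (R.gam n) := by
  haveI := R.epi_r n
  haveI : Epi (R.r' n) := epi_comp _ _
  haveI : Epi ((Scheme.Modules.pushforward (ιZ J n)).map (R.gam n)) :=
    epi_of_epi_fac (R.unit_gam n)
  haveI := AmpleVan.faithful_push (ιZ J n)
  haveI : Epi (R.gam n) := (Scheme.Modules.pushforward (ιZ J n)).epi_of_epi_map ‹_›
  exact H28.PBAtlas.isIso_of_epi _ (SeesawX.isFinLocFree_pullback _ R.lf) (S.isFinLocFree_F n) (R.rk n)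

/-- `E ⊗ O/K` as the direct image of the inverse image. -/
def e0 (n : ℕ) : (SheafHomX.hom (dual R.E)).obj (ClSub.quotMod (J ^ (n + 1))) ≅
    (Scheme.Modules.pushforward (ιZ J n)).obj ((Scheme.Modules.pullback (ιZ J n)).obj R.E) :=
  haveI := H9Misc.LocFreeHomTensor.isIso_projMod (ιZ J n) (Coh.structureModule (Z J n)) R.lf
  ((H9Misc.LocFreeHomTensor.tenHomIso R.lf).app (ClSub.quotMod (J ^ (n + 1)))).symm ≪≫
    asIso (KFlatLib.projMod (ιZ J n) (Coh.structureModule (Z J n)) R.E) ≪≫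
    (Scheme.Modules.pushforward (ιZ J n)).mapIso
      ((H26.LefFEt.upsilon (W := Z J n)).app ((Scheme.Modules.pullback (ιZ J n)).obj R.E))

/-- The reduction of `E` as a dual of the dual. -/
def psi (n : ℕ) : R.E ⟶ (SheafHomX.hom (dual R.E)).obj (ClSub.quotMod (J ^ (n + 1))) :=
  toDD R.E ≫ (SheafHomX.hom (dual R.E)).map (ClSub.toSubscheme (J ^ (n + 1)))

theorem epi_psi (n : ℕ) : Epi (R.psi n) := by
  haveI := isIso_toDD R.lf
  haveI := CurvePoint.epi_toSubscheme (J ^ (n + 1))
  haveI := preservesFiniteColimits_hom (H9Misc.LocFreeHomTensor.isFinLocFree_dual R.lf)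
  haveI : Epi ((SheafHomX.hom (dual R.E)).map (ClSub.toSubscheme (J ^ (n + 1)))) := inferInstance
  exact epi_comp _ _

theorem exists_w (n : ℕ) : ∃ w : (SheafHomX.hom (dual R.E)).obj (ClSub.quotMod (J ^ (n + 1))) ≅ S.G n,
    R.psi n ≫ w.hom = R.r n := by
  let δ := ((Scheme.Modules.pullbackPushforwardAdjunction (ιZ J n)).homEquiv _ _).symm (R.psi n ≫ (R.e0 n).hom)
  have hδ : (Scheme.Modules.pullbackPushforwardAdjunction (ιZ J n)).unit.app R.E ≫
      (Scheme.Modules.pushforward (ιZ J n)).map δ = R.psi n ≫ (R.e0 n).hom :=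
    ((Scheme.Modules.pullbackPushforwardAdjunction (ιZ J n)).homEquiv_unit _ _ _).symm.trans
      (Equiv.apply_symm_apply _ _)
  haveI := R.epi_psi n
  haveI : Epi (R.psi n ≫ (R.e0 n).hom) := epi_comp _ _
  haveI : Epi ((Scheme.Modules.pushforward (ιZ J n)).map δ) := epi_of_epi_fac hδ
  haveI := AmpleVan.faithful_push (ιZ J n)
  haveI : Epi δ := (Scheme.Modules.pushforward (ιZ J n)).epi_of_epi_map ‹_›
  haveI : IsIso δ := H28.PBAtlas.isIso_of_epi _ (SeesawX.isFinLocFree_pullback _ R.lf)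
    (SeesawX.isFinLocFree_pullback _ R.lf) ⟨Iso.refl _⟩
  haveI := R.isIso_gam n
  refine ⟨R.e0 n ≪≫ (Scheme.Modules.pushforward (ιZ J n)).mapIso ((asIso δ).symm ≪≫ asIso (R.gam n)) ≪≫
    (Scheme.Modules.pushforwardComp (S.a n) (ιZ J n)).app _, ?_⟩
  simp only [Iso.trans_hom, Functor.mapIso_hom, Iso.symm_hom, asIso_inv, asIso_hom, Functor.map_comp, Category.assoc]
  rw [← reassoc_of% hδ, ← Functor.map_comp_assoc, IsIso.hom_inv_id, CategoryTheory.Functor.map_id,
    Category.id_comp, reassoc_of% (R.unit_gam n)]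
  simp [r']
  exact Category.comp_id _

/-- The reduction of `E`. -/
def w (n : ℕ) : (SheafHomX.hom (dual R.E)).obj (ClSub.quotMod (J ^ (n + 1))) ≅ S.G n := (R.exists_w n).choose

theorem psi_w (n : ℕ) : R.psi n ≫ (R.w n).hom = R.r n := (R.exists_w n).choose_spec

theorem quot_w (n : ℕ) : (SheafHomX.hom (dual R.E)).map (Lef.quotMap (Lef.pow_succ_le J n)) ≫ (R.w n).hom =
    (R.w (n + 1)).hom ≫ S.step n := by
  haveI := R.epi_psi (n + 1)
  refine (cancel_epi (R.psi (n + 1))).1 ?_
  have e : R.psi (n + 1) ≫ (SheafHomX.hom (dual R.E)).map (Lef.quotMap (Lef.pow_succ_le J n)) = R.psi n := by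
    refine (Category.assoc _ _ _).trans (congrArg (toDD R.E ≫ ·) ?_)
    rw [← Functor.map_comp]
    exact congrArg _ (H26.LefFEt.toSub_quotMap (Lef.pow_succ_le J n))
  rw [← Category.assoc, e, psi_w, ← Category.assoc, psi_w, r_step]

variable (hb : ∀ D : X.Modules, FlatMod.IsFinLocFree D → Lef.HomToFormalBijective J D)

include hb in
/-- Maps into the algebraisation are compatible systems. -/
theorem exists_lift {N : X.Modules} (hN : FlatMod.IsFinLocFree N) (ν : ∀ n, N ⟶ S.G n)
    (hν : ∀ n, ν (n + 1) ≫ S.step n = ν n) : ∃ φ : N ⟶ R.E, ∀ n, φ ≫ R.r n = ν n := by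
  have hD : FlatMod.IsFinLocFree ((SheafHomX.ten (dual R.E)).obj N) :=
    isFinLocFree_ten hN (H9Misc.LocFreeHomTensor.isFinLocFree_dual R.lf)
  let eq := fun Q => (SheafHomX.adj (dual R.E)).homEquiv N Q
  obtain ⟨φ₀, hφ₀⟩ := (hb _ hD).2 (fun n => (eq _).symm (ν n ≫ (R.w n).inv)) fun n => by
    refine ((SheafHomX.adj (dual R.E)).homEquiv_naturality_right_symm _ _).symm.trans (congrArg (eq _).symm ?_)
    rw [Category.assoc, ← hν n, Category.assoc]
    refine congrArg (ν (n + 1) ≫ ·) ?_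
    rw [Iso.inv_comp_eq, ← Category.assoc, Iso.eq_comp_inv]
    exact R.quot_w n
  haveI := isIso_toDD R.lf
  refine ⟨eq _ φ₀ ≫ inv (toDD R.E), fun n => ?_⟩
  rw [← R.psi_w n, psi]
  simp only [Category.assoc, IsIso.inv_hom_id_assoc]
  rw [← Category.assoc, ← (SheafHomX.adj (dual R.E)).homEquiv_naturality_right, hφ₀ n]
  refine (congrArg (· ≫ _) ((eq _).apply_symm_apply _)).trans ?_
  rw [Category.assoc, Iso.inv_hom_id, Category.comp_id]

include hb in
/-- Maps into the algebraisation are determined by the levels. -/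
theorem hom_ext {N : X.Modules} (hN : FlatMod.IsFinLocFree N) {φ φ' : N ⟶ R.E}
    (h : ∀ n, φ ≫ R.r n = φ' ≫ R.r n) : φ = φ' := by
  have hD : FlatMod.IsFinLocFree ((SheafHomX.ten (dual R.E)).obj N) :=
    isFinLocFree_ten hN (H9Misc.LocFreeHomTensor.isFinLocFree_dual R.lf)
  haveI := isIso_toDD R.lf
  rw [← cancel_mono (toDD R.E)]
  refine ((SheafHomX.adj (dual R.E)).homEquiv N _).symm.injective ((hb _ hD).1 _ _ fun n => ?_)
  rw [← (SheafHomX.adj (dual R.E)).homEquiv_naturality_right_symm,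
    ← (SheafHomX.adj (dual R.E)).homEquiv_naturality_right_symm]
  refine congrArg _ ((cancel_mono (R.w n).hom).1 ?_)
  have hn := h n
  rw [← R.psi_w n, psi] at hn
  simp only [Category.assoc] at hn ⊢
  exact hn

/-- Kernel of a projection on affine opens. -/
theorem r_eq_zero_iff (n : ℕ) {V : X.Opens} (hV : IsAffineOpen V) (x : Γ(R.E, V)) :
    (R.r n).app V x = 0 ↔ x ∈ (J ^ (n + 1)).ideal ⟨V, hV⟩ • (⊤ : Submodule Γ(X, V) Γ(R.E, V)) := by
  haveI := R.isIso_gam n
  have h0 : (R.r n).app V x = 0 ↔ (R.r' n).app V x = 0 :=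
    (map_eq_zero_iff _ (ConcreteCategory.bijective_of_isIso
      (((Scheme.Modules.pushforwardComp (S.a n) (ιZ J n)).inv.app _).app V)).1).symm
  rw [h0, ← R.unit_gam n]
  refine Iff.trans (map_eq_zero_iff _ (ConcreteCategory.bijective_of_isIso
    (((Scheme.Modules.pushforward (ιZ J n)).map (R.gam n)).app V)).1) ?_
  refine Iff.trans ((QCoh.unit_app_closed (ιZ J n) (QCoh.isQCoh_of_isFinLocFree R.lf) hV).2 x) ?_
  rw [Scheme.IdealSheafData.ker_subschemeι]

end FSys.Alg

end Groth.Agent.GrLib8.LeffExt
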