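import Groth.Agent.GrLib8.LeffExt.Spec
import Groth.Agent.GrLib8.LeffExt.Et

/-!
# Finite étale covers of `Y` extend to a neighbourhood under `Leff(X, Y)`
-/

set_option autoImplicit false
set_option linter.style.haveILetI false
set_option backward.isDefEq.respectTransparency false
set_option backward.isDefEq.respectTransparency.types false
set_option maxHeartbeats 400000

universe u

open CategoryTheory CategoryTheory.Limits AlgebraicGeometry TopologicalSpace Opposite

noncomputable section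

namespace Groth.Agent.GrLib8.LeffExt

open Groth.Agent

/-- Extension of a finite étale cover of `Y` to an open neighbourhood. -/
theorem exists_extension (X : Scheme.{u}) [IsLocallyNoetherian X] (𝓘 : X.IdealSheafData)
    (h : LefX.LeffCond X 𝓘) (R : FEt.Cat 𝓘.subscheme) :
    ∃ (U : X.Opens) (R' : FEt.Cat (U : Scheme.{u})), (𝓘.support : Set X) ⊆ (U : Set X) ∧
      ∀ i : 𝓘.subscheme ⟶ (U : Scheme.{u}), i ≫ U.ι = 𝓘.subschemeι →
        Nonempty ((FEt.restrict i).obj R' ≅ R) := by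
  have heq : 𝓘 ^ (0 + 1) = 𝓘 := by rw [zero_add, pow_one]
  obtain ⟨e, heiso, he⟩ : ∃ e : Z 𝓘 0 ⟶ 𝓘.subscheme, IsIso e ∧ e ≫ 𝓘.subschemeι = ιZ 𝓘 0 := by
    refine ⟨Scheme.IdealSheafData.inclusion heq.ge, ?_, Scheme.IdealSheafData.inclusion_subschemeι _⟩
    refine ⟨Scheme.IdealSheafData.inclusion heq.le, ?_, ?_⟩
    · rw [← cancel_mono (𝓘 ^ (0 + 1)).subschemeι, Category.assoc, Scheme.IdealSheafData.inclusion_subschemeι,
        Scheme.IdealSheafData.inclusion_subschemeι, Category.id_comp]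
    · rw [← cancel_mono 𝓘.subschemeι, Category.assoc, Scheme.IdealSheafData.inclusion_subschemeι,
        Scheme.IdealSheafData.inclusion_subschemeι, Category.id_comp]
  haveI : IsFinite R.hom := R.prop.1
  haveI : Etale R.hom := R.prop.2
  let S : FSys 𝓘 := FSys.ofZero (R.hom ≫ inv e) inferInstance inferInstance
  obtain ⟨U, hU, ⟨A⟩⟩ := S.exists_alg h
  let J := 𝓘.comap U.ι
  have hb : ∀ D : (U : Scheme.{u}).Modules, FlatMod.IsFinLocFree D → Lef.HomToFormalBijective J D := h.1 U hU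
  let π := (A.B hb).π
  haveI : IsFinite π := A.isFinite_π hb
  have het : ∀ n, Etale (pullback.snd π (ιZ J n)) := fun n => by
    haveI : Etale ((S.onOpen hU).a n) := (S.onOpen hU).et n
    rw [← (A.isPullback_toW hb n).isoPullback_inv_snd]
    infer_instance
  obtain ⟨V, hV, hVet⟩ := exists_etale_over_nhd J π het
  haveI := hVet
  let δ := U.ι.isoImage V
  let R' : FEt.Cat ((U.ι ''ᵁ V : X.Opens) : Scheme.{u}) :=
    MorphismProperty.Over.mk ⊤ (π ∣_ V ≫ δ.hom) ⟨inferInstance, inferInstance⟩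
  refine ⟨U.ι ''ᵁ V, R', fun x hx => ?_, fun i hi => ?_⟩
  · refine ⟨⟨x, hU hx⟩, hV ?_, rfl⟩
    rw [Scheme.IdealSheafData.support_comap]
    exact hx
  · let m' : 𝓘.subscheme ⟶ (V : Scheme.{u}) := i ≫ δ.inv
    let m : 𝓘.subscheme ⟶ (U : Scheme.{u}) := m' ≫ V.ι
    have hm : m ≫ U.ι = 𝓘.subschemeι := by
      rw [← hi]
      simp [m, m', δ]
    have hmk : (kappa hU 0 ≫ e) ≫ m = ιZ J 0 := by
      rw [← cancel_mono U.ι, Category.assoc, hm, Category.assoc, he, kappa_ι]
    have sq : IsPullback (A.toW hb 0) R.hom π m :=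
      (A.isPullback_toW hb 0).of_iso (Iso.refl _) (Iso.refl _) (asIso (kappa hU 0 ≫ e)) (Iso.refl _)
        (by simp) (by
          show ((R.hom ≫ inv e) ≫ inv (kappa hU 0)) ≫ kappa hU 0 ≫ e = 𝟙 _ ≫ R.hom
          simp)
        (by simp [π]) (by rw [Iso.refl_hom, Category.comp_id, asIso_hom, hmk])
    obtain ⟨g, hg, hgs⟩ : ∃ g, g ≫ (π ⁻¹ᵁ V).ι = A.toW hb 0 ∧ g ≫ π ∣_ V = R.hom ≫ m' :=
      ⟨(isPullback_morphismRestrict π V).lift (R.hom ≫ m') (A.toW hb 0)
          (by rw [sq.w, Category.assoc]),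
        IsPullback.lift_snd _ _ _ _, IsPullback.lift_fst _ _ _ _⟩
    have sq' : IsPullback g R.hom (π ∣_ V) m' :=
      IsPullback.of_right (by rw [hg]; exact sq) hgs (isPullback_morphismRestrict π V).flip
    have sq'' : IsPullback g R.hom (π ∣_ V ≫ δ.hom) i :=
      sq'.of_iso (Iso.refl _) (Iso.refl _) (Iso.refl _) δ (by simp) (by simp) (by simp) (by simp [m'])
    exact ⟨(MorphismProperty.Over.isoMk sq''.isoPullback sq''.isoPullback_hom_snd).symm⟩

end Groth.Agent.GrLib8.LeffExt
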