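import Groth.Agent.GrLib8.LeffExt.Sys
import Groth.Agent.Synt29.ModSysPush
import Groth.Agent.S9716
import Groth.Agent.H26.LefFEt.Phi
import Groth.Agent.S12131
import Groth.Agent.H28.PBAtlas
import Groth.Agent.SeesawX.Glue
import Groth.Agent.Lib.CurveDeg
import Groth.Agent.PPSheaf.Gr
import Groth.Agent.AmpleVan.ThickPush

/-!
# The algebraising finite locally free module
-/

set_option autoImplicit false
set_option linter.style.haveILetI false
set_option backward.isDefEq.respectTransparency false
set_option backward.isDefEq.respectTransparency.types false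

set_option maxHeartbeats 400000

universe u

open CategoryTheory CategoryTheory.Limits AlgebraicGeometry TopologicalSpace Opposite

noncomputable section

namespace Groth.Agent.GrLib8.LeffExt

open Groth.Agent

variable {P P' B B' : Scheme.{u}}

/-- The comparison of direct images across a square. -/
def sqMap {t : P ⟶ P'} {a : P ⟶ B} {a' : P' ⟶ B'} {i : B ⟶ B'} (h : t ≫ a' = a ≫ i) :
    (Scheme.Modules.pushforward a').obj (Coh.structureModule P') ⟶
      (Scheme.Modules.pushforward i).obj ((Scheme.Modules.pushforward a).obj (Coh.structureModule P)) :=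
  pushStep t h ≫ (Scheme.Modules.pushforwardComp a i).inv.app _

/-- Base change for direct images of functions along affine maps. -/
theorem isIso_sqMap {t : P ⟶ P'} {a : P ⟶ B} {a' : P' ⟶ B'} {i : B ⟶ B'} (h : IsPullback t a a' i)
    [IsAffineHom a'] :
    IsIso (((Scheme.Modules.pullbackPushforwardAdjunction i).homEquiv _ _).symm (sqMap h.w)) := by
  haveI : Coh.IsQCoh (Coh.structureModule P') := QCoh.isQCoh_structureModule
  have hbc := S12131.result a' i t a h (Coh.structureModule P')
  let u' := SheafOfModules.pullbackObjUnitToUnit t.toRingCatSheafHom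
  haveI : IsIso u' := inferInstance
  suffices e : ((Scheme.Modules.pullbackPushforwardAdjunction i).homEquiv _ _).symm (sqMap h.w) =
      ((Scheme.Modules.pullbackPushforwardAdjunction i).homEquiv _ _).symm
        ((Scheme.Modules.pushforward a').map
            ((Scheme.Modules.pullbackPushforwardAdjunction t).unit.app (Coh.structureModule P')) ≫
          (Scheme.Modules.pushforwardComp t a').hom.app _ ≫
          (Scheme.Modules.pushforwardCongr h.w).hom.app _ ≫
          (Scheme.Modules.pushforwardComp a i).inv.app _) ≫ (Scheme.Modules.pushforward a).map u' by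
    rw [e]
    exact @IsIso.comp_isIso _ _ _ _ _ _ _ hbc inferInstance
  rw [← Adjunction.homEquiv_naturality_right_symm]
  refine congrArg _ ?_
  have hu : (Scheme.Modules.pullbackPushforwardAdjunction t).unit.app (Coh.structureModule P') ≫
      (Scheme.Modules.pushforward t).map u' = ClSub.unitToPush t :=
    ((Scheme.Modules.pullbackPushforwardAdjunction t).homEquiv_unit _ _ u').symm.trans
      (H26.LefFEt.homEquiv_pullUnit t)
  rw [sqMap, pushStep, ← hu, Functor.map_comp]
  simp only [Category.assoc]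
  refine congrArg (_ ≫ ·) ?_
  have n1 := (Scheme.Modules.pushforwardComp t a').hom.naturality u'
  have n2 := (Scheme.Modules.pushforwardCongr h.w).hom.naturality u'
  have n3 := (Scheme.Modules.pushforwardComp a i).inv.naturality u'
  simp only [Functor.comp_map] at n1 n3
  rw [reassoc_of% n1, reassoc_of% n2, n3]
  rfl

theorem pushTrans_comp_gen {Y : Scheme.{u}} {g : B ⟶ Y} {g' : B' ⟶ Y} {t : P ⟶ P'} {a : P ⟶ B} {a' : P' ⟶ B'}
    {i : B ⟶ B'} (h : t ≫ a' = a ≫ i) (hi : i ≫ g' = g) (h2 : t ≫ (a' ≫ g') = a ≫ g) :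
    H26.FMod.pushTrans i g' g hi (sqMap h) ≫ (Scheme.Modules.pushforwardComp a g).hom.app _ =
      (Scheme.Modules.pushforwardComp a' g').hom.app _ ≫ pushStep t h2 := by
  refine QCoh.hom_ext_app fun U z => ?_
  show _ = (pushStep t h2).app U (show Γ(P', (a' ≫ g') ⁻¹ᵁ U) from z)
  rw [pushStep_app]
  simp [H26.FMod.pushTrans, sqMap]
  refine (congrArg _ (pushStep_app _ _ _ _)).trans ?_
  subst hi
  exact congr($(Scheme.Hom.appLE_map t _ _) z)

theorem compat_of_comm {T0 T1 Y : Scheme.{u}} (f : T0 ⟶ T1) (g : T1 ⟶ Y) (p : T0 ⟶ Y) (hfg : f ≫ g = p)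
    {M : Y.Modules} {P' : T1.Modules} {P : T0.Modules} (e : (Scheme.Modules.pullback f).obj P' ⟶ P)
    (φ' : (Scheme.Modules.pullback g).obj M ⟶ P') (φ : (Scheme.Modules.pullback p).obj M ⟶ P)
    (hφ : (Scheme.Modules.pullback f).map φ' ≫ e =
      ((Scheme.Modules.pullbackComp f g).hom.app M ≫ (Scheme.Modules.pullbackCongr hfg).hom.app M) ≫ φ) :
    (Scheme.Modules.pullbackPushforwardAdjunction g).homEquiv M P' φ' ≫ H26.FMod.pushTrans f g p hfg
        ((Scheme.Modules.pullbackPushforwardAdjunction f).homEquiv _ _ e) =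
      (Scheme.Modules.pullbackPushforwardAdjunction p).homEquiv M P φ := by
  apply ((Scheme.Modules.pullbackPushforwardAdjunction p).homEquiv M P).symm.injective
  rw [Equiv.symm_apply_apply]
  have key := Synt29.ModSysPush.comm_gen f g p hfg e ((Scheme.Modules.pullbackPushforwardAdjunction g).homEquiv M P' φ')
    _ rfl
  rw [Equiv.symm_apply_apply, hφ] at key
  exact ((cancel_epi _).1 key).symm

theorem pushStep_push {Y W : Scheme.{u}} {g : P ⟶ Y} {g' : P' ⟶ Y} (j : Y ⟶ W) {h : P ⟶ W} {h' : P' ⟶ W}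
    (t : P ⟶ P') (ht : t ≫ g' = g) (ht' : t ≫ h' = h) (e : g ≫ j = h) (e' : g' ≫ j = h') :
    ((Scheme.Modules.pushforwardComp g' j).app (Coh.structureModule P') ≪≫
        (Scheme.Modules.pushforwardCongr e').app _).symm.hom ≫
      (Scheme.Modules.pushforward j).map (pushStep t ht) =
    pushStep t ht' ≫ ((Scheme.Modules.pushforwardComp g j).app (Coh.structureModule P) ≪≫
        (Scheme.Modules.pushforwardCongr e).app _).symm.hom := by
  subst e e'
  refine QCoh.hom_ext_app fun V z => ?_
  simp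
  exact (pushStep_app t ht _ _).trans (pushStep_app t ht' _ _).symm

variable {X : Scheme.{u}} {J : X.IdealSheafData}

theorem hom_compat (𝔐 : FSch.ModSys (FSch.completionAlong X J)) {M : X.Modules}
    (θ : FSch.completionMod J M ⟶ 𝔐) (n : ℕ) :
    (Scheme.Modules.pullbackPushforwardAdjunction (FSch.completionToX X J (n + 1))).homEquiv M (𝔐.F (n + 1))
        (FSch.ModSys.Hom.app θ (n + 1)) ≫ Synt29.ModSysPush.tPush J 𝔐 n =
      (Scheme.Modules.pullbackPushforwardAdjunction (FSch.completionToX X J n)).homEquiv M (𝔐.F n)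
        (FSch.ModSys.Hom.app θ n) := by
  refine compat_of_comm ((FSch.completionAlong X J).ι n) (FSch.completionToX X J (n + 1))
    (FSch.completionToX X J n) (FSch.completionToX_comm X J n) (𝔐.e n).hom _ _ ?_
  rw [← Synt29.ModSysPush.completionMod_e_hom]
  exact FSch.ModSys.Hom.comm θ n

namespace FSys

variable (S : FSys J)

/-- The direct image of a level on its neighbourhood. -/
abbrev F (n : ℕ) : (Z J n).Modules := (Scheme.Modules.pushforward (S.a n)).obj (Coh.structureModule (S.R n))

theorem isFinLocFree_F (n : ℕ) [IsLocallyNoetherian X] : FlatMod.IsFinLocFree (S.F n) :=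
  H26.LefFEt.isFinLocFree_A (S.a n)

/-- The system of modules. -/
def modSys : FSch.ModSys (FSch.completionAlong X J) where
  F n := S.F n
  e n := @asIso _ _ _ _ _ (isIso_sqMap (S.cart n))

theorem adj_modSys (n : ℕ) :
    (Scheme.Modules.pullbackPushforwardAdjunction (inc J n)).homEquiv _ _ (S.modSys.e n).hom =
      sqMap (S.cart n).w :=
  Equiv.apply_symm_apply ((Scheme.Modules.pullbackPushforwardAdjunction (inc J n)).homEquiv (S.F (n + 1)) (S.F n))
    (sqMap (S.cart n).w)

/-- An algebraisation of the direct images by a finite locally free module. -/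
structure Alg where
  /-- the module -/
  E : X.Modules
  lf : FlatMod.IsFinLocFree E
  /-- the maps to the levels -/
  r : ∀ n, E ⟶ S.G n
  r_step : ∀ n, r (n + 1) ≫ S.step n = r n
  surj : ∀ n (V : X.Opens), IsAffineOpen V → Function.Surjective ((r n).app V)
  rk : ∀ n, Nonempty ((Scheme.Modules.pullback (ιZ J n)).obj E ≅ S.F n)

theorem pushTrans_comp (n : ℕ) :
    H26.FMod.pushTrans (inc J n) (ιZ J (n + 1)) (ιZ J n) (inc_ι J n) (sqMap (S.cart n).w) ≫
        (Scheme.Modules.pushforwardComp (S.a n) (ιZ J n)).hom.app _ =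
      (Scheme.Modules.pushforwardComp (S.a (n + 1)) (ιZ J (n + 1))).hom.app _ ≫ S.step n :=
  pushTrans_comp_gen (g := ιZ J n) (g' := ιZ J (n + 1)) (S.cart n).w (inc_ι J n) (S.t_b n)

theorem exists_maps {M : X.Modules} (θ : FSch.completionMod J M ≅ S.modSys) [IsLocallyNoetherian X]
    (hM : Coh.IsQCoh M) :
    ∃ ρ : ∀ n, M ⟶ S.G n, (∀ n, ρ (n + 1) ≫ S.step n = ρ n) ∧
      ∀ n (V : X.Opens), IsAffineOpen V → Function.Surjective ((ρ n).app V) := by
  let adj := fun n => Scheme.Modules.pullbackPushforwardAdjunction (ιZ J n)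
  let c : ∀ n, M ⟶ (Scheme.Modules.pushforward (ιZ J n)).obj (S.F n) :=
    fun n => (adj n).homEquiv M (S.F n) (θ.hom.app n)
  have hc : ∀ n, c (n + 1) ≫
      H26.FMod.pushTrans (inc J n) (ιZ J (n + 1)) (ιZ J n) (inc_ι J n) (sqMap (S.cart n).w) = c n := by
    intro n
    have h3 : c (n + 1) ≫ H26.FMod.pushTrans (inc J n) (ιZ J (n + 1)) (ιZ J n) (inc_ι J n)
        ((Scheme.Modules.pullbackPushforwardAdjunction (inc J n)).homEquiv _ _ (S.modSys.e n).hom) = c n :=
      hom_compat S.modSys θ.hom n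
    exact (congrArg (fun t => c (n + 1) ≫ H26.FMod.pushTrans (inc J n) (ιZ J (n + 1)) (ιZ J n) (inc_ι J n) t)
      (S.adj_modSys n)).symm.trans h3
  refine ⟨fun n => c n ≫ (Scheme.Modules.pushforwardComp (S.a n) (ιZ J n)).hom.app _, fun n => ?_,
    fun n V hV => ?_⟩
  · refine ((Category.assoc _ _ _).trans (congrArg (c (n + 1) ≫ ·) (S.pushTrans_comp n).symm)).trans ?_
    refine (Category.assoc _ _ _).symm.trans ?_
    exact congrArg (· ≫ _) (hc n)
  · have hu := (QCoh.unit_app_closed (ιZ J n) hM hV).1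
    have hiso : IsIso (θ.hom.app n) :=
      ⟨θ.inv.app n, congrArg (fun f => FSch.ModSys.Hom.app f n) θ.hom_inv_id,
        congrArg (fun f => FSch.ModSys.Hom.app f n) θ.inv_hom_id⟩
    have hθ : Function.Surjective ((Scheme.Modules.Hom.app
        ((Scheme.Modules.pushforward (ιZ J n)).map (θ.hom.app n)) V)) :=
      (ConcreteCategory.bijective_of_isIso _).2
    have hcn : c n = (adj n).unit.app M ≫ (Scheme.Modules.pushforward (ιZ J n)).map (θ.hom.app n) :=
      (adj n).homEquiv_unit _ _ _
    have hcs : Function.Surjective ((c n).app V) := by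
      rw [hcn]
      exact hθ.comp hu
    exact (ConcreteCategory.bijective_of_isIso
      (((Scheme.Modules.pushforwardComp (S.a n) (ιZ J n)).hom.app _).app V)).2.comp hcs

/-- An algebraisation on an open neighbourhood from effectiveness. -/
theorem exists_alg [IsLocallyNoetherian X] (h : LefX.LeffCond X J) :
    ∃ (U : X.Opens) (hU : (J.support : Set X) ⊆ U), Nonempty (S.onOpen hU).Alg := by
  obtain ⟨U, E, hU, hE, ⟨θ⟩⟩ := h.2 S.modSys fun n => S.isFinLocFree_F n
  refine ⟨U, hU, ?_⟩
  have hM : Coh.IsQCoh ((Scheme.Modules.pushforward U.ι).obj E) :=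
    QCoh.isQCoh_pushforward U.ι (QCoh.isQCoh_of_isFinLocFree hE)
  obtain ⟨ρ, hρ, hsurj⟩ := S.exists_maps θ hM
  let S' := S.onOpen hU
  let lam : ∀ n, S.G n ≅ (Scheme.Modules.pushforward U.ι).obj (S'.G n) := fun n =>
    ((Scheme.Modules.pushforwardComp (S'.b n) U.ι).app _ ≪≫
      (Scheme.Modules.pushforwardCongr (S.onOpen_b hU n)).app _).symm
  let r : ∀ n, E ⟶ S'.G n := fun n => (Scheme.Modules.pushforward U.ι).preimage (ρ n ≫ (lam n).hom)
  have hr : ∀ n, (Scheme.Modules.pushforward U.ι).map (r n) = ρ n ≫ (lam n).hom := fun n =>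
    Functor.map_preimage _ _
  have hstep : ∀ n, (lam (n + 1)).hom ≫ (Scheme.Modules.pushforward U.ι).map (S'.step n) =
      S.step n ≫ (lam n).hom := by
    intro n
    exact pushStep_push U.ι (S.t n) (S'.t_b n) (S.t_b n) (S.onOpen_b hU n) (S.onOpen_b hU (n + 1))
  refine ⟨⟨E, hE, r, fun n => (Scheme.Modules.pushforward U.ι).map_injective ?_, fun n V hV => ?_, fun n => ?_⟩⟩
  · rw [Functor.map_comp, hr, hr, Category.assoc, hstep, ← Category.assoc, hρ]
  · have hs : Function.Surjective ((r n).app (U.ι ⁻¹ᵁ (U.ι ''ᵁ V))) := by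
      have h1 : Function.Surjective (((Scheme.Modules.pushforward U.ι).map (r n)).app (U.ι ''ᵁ V)) := by
        rw [hr]
        exact (ConcreteCategory.bijective_of_isIso ((lam n).hom.app (U.ι ''ᵁ V))).2.comp
          (hsurj n _ (hV.image_of_isOpenImmersion U.ι))
      exact h1
    rwa [U.ι.preimage_image_eq] at hs
  · obtain ⟨i₁⟩ : Nonempty ((Scheme.Modules.pullback U.ι).obj ((Scheme.Modules.pushforward U.ι).obj E) ≅ E) :=
      ⟨((Scheme.Modules.restrictFunctorIsoPullback U.ι).app _).symm ≪≫
        (asIso (Scheme.Modules.restrictAdjunction U.ι).counit).app E⟩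
    have sq : IsPullback (𝟙 (S.R n)) (S'.a n) (S.a n) (kappa hU n) :=
      IsPullback.of_horiz_isIso ⟨by
        show _ = (S.a n ≫ inv (kappa hU n)) ≫ kappa hU n
        simp⟩
    haveI := isIso_sqMap sq
    have hθn : (Scheme.Modules.pullback (ιZ J n)).obj ((Scheme.Modules.pushforward U.ι).obj E) ≅ S.F n :=
      ⟨θ.hom.app n, θ.inv.app n, congrArg (fun f => FSch.ModSys.Hom.app f n) θ.hom_inv_id,
        congrArg (fun f => FSch.ModSys.Hom.app f n) θ.inv_hom_id⟩
    exact ⟨(Scheme.Modules.pullback (ιZ (J.comap U.ι) n)).mapIso i₁.symm ≪≫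
      (Scheme.Modules.pullbackComp (ιZ (J.comap U.ι) n) U.ι).app _ ≪≫
      (Scheme.Modules.pullbackCongr (kappa_ι hU n).symm).app _ ≪≫
      ((Scheme.Modules.pullbackComp (kappa hU n) (ιZ J n)).app _).symm ≪≫
      (Scheme.Modules.pullback (kappa hU n)).mapIso hθn ≪≫
      @asIso _ _ _ _ _ (isIso_sqMap sq)⟩

end FSys

end Groth.Agent.GrLib8.LeffExt
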