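import Groth.Agent.GrLib8.LeffExt.Lift
import Groth.Agent.H23.TensorDesc
import Groth.Agent.KFlatLib.Scheme.TensorAssoc
import Groth.Agent.Pi1Ext.FAlg.Mult

/-!
# The multiplication on the algebraisation
-/

set_option autoImplicit false
set_option linter.style.haveILetI false
set_option linter.unusedSectionVars false
set_option backward.isDefEq.respectTransparency false
set_option backward.isDefEq.respectTransparency.types false
set_option maxHeartbeats 400000

universe u

open CategoryTheory CategoryTheory.Limits AlgebraicGeometry TopologicalSpace Opposite MonoidalCategory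

noncomputable section

namespace Groth.Agent.GrLib8.LeffExt

open Groth.Agent Groth.Agent.H23
open Groth.Agent.Pi1Ext.FAlg (tensor_hom_ext tmul_add_left tmul_add_right tmul_smul_left tmul_smul_right)

variable {X : Scheme.{u}} [IsLocallyNoetherian X] {J : X.IdealSheafData}

namespace FSys.Alg

variable {S : FSys J} (R : S.Alg)

theorem isFinLocFree_tensorMod {M N : X.Modules} (hM : FlatMod.IsFinLocFree M) (hN : FlatMod.IsFinLocFree N) :
    FlatMod.IsFinLocFree (CohB1.tensorMod M N) :=
  KFlatLib.isFinLocFree_tensor hM hN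

/-- The value of a section at a level, as a function. -/
def ev (n : ℕ) (U : X.Opens) (x : Γ(R.E, U)) : Γ(S.R n, S.b n ⁻¹ᵁ U) := (R.r n).app U x

theorem ev_add (n : ℕ) (U : X.Opens) (x y : Γ(R.E, U)) : R.ev n U (x + y) = R.ev n U x + R.ev n U y :=
  map_add ((R.r n).app U).hom x y

theorem ev_smul (n : ℕ) (U : X.Opens) (c : Γ(X, U)) (x : Γ(R.E, U)) :
    R.ev n U (c • x) = (S.b n).app U c * R.ev n U x :=
  (R.r n).app_smul c x

theorem ev_res (n : ℕ) {U V : X.Opens} (h : V ≤ U) (x : Γ(R.E, U)) :
    R.ev n V (R.E.presheaf.map (homOfLE h).op x) =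
      (S.R n).presheaf.map (homOfLE ((S.b n).preimage_mono h)).op (R.ev n U x) :=
  QCoh.map_app_comm (R.r n) (homOfLE h) x

theorem ev_step (n : ℕ) (U : X.Opens) (x : Γ(R.E, U)) : S.resR n U (R.ev (n + 1) U x) = R.ev n U x :=
  (S.step_app n U _).symm.trans congr(($(R.r_step n)).app U x)

/-- The bilinear product at a level. -/
def bil (n : ℕ) : TensorDesc.Bilin R.E R.E (S.G n) where
  b U x y := show Γ(S.R n, S.b n ⁻¹ᵁ U) from R.ev n U x * R.ev n U y
  add_left U x x' y := by
    show R.ev n U (x + x') * R.ev n U y = R.ev n U x * R.ev n U y + R.ev n U x' * R.ev n U y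
    rw [ev_add, add_mul]
  smul_left U c x y := by
    show R.ev n U (c • x) * R.ev n U y = (S.b n).app U c * (R.ev n U x * R.ev n U y)
    rw [ev_smul, mul_assoc]
  add_right U x y y' := by
    show R.ev n U x * R.ev n U (y + y') = R.ev n U x * R.ev n U y + R.ev n U x * R.ev n U y'
    rw [ev_add, mul_add]
  smul_right U c x y := by
    show R.ev n U x * R.ev n U (c • y) = (S.b n).app U c * (R.ev n U x * R.ev n U y)
    rw [ev_smul, mul_left_comm]
  res {U V} h x y := by
    show (S.R n).presheaf.map (homOfLE ((S.b n).preimage_mono h)).op (R.ev n U x * R.ev n U y) =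
      R.ev n V (R.E.presheaf.map (homOfLE h).op x) * R.ev n V (R.E.presheaf.map (homOfLE h).op y)
    rw [map_mul, ev_res, ev_res]

variable (hb : ∀ D : X.Modules, FlatMod.IsFinLocFree D → Lef.HomToFormalBijective J D)

include hb in
theorem exists_μ : ∃ φ : CohB1.tensorMod R.E R.E ⟶ R.E, ∀ n, φ ≫ R.r n = TensorDesc.desc (R.bil n) := by
  refine R.exists_lift hb (isFinLocFree_tensorMod R.lf R.lf) _ fun n => tensor_hom_ext fun U x y => ?_
  show (S.step n).app U ((TensorDesc.desc (R.bil (n + 1))).val.app (op U) (SecTwist.tmul _ _ U x y)) = _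
  rw [TensorDesc.desc_tmul, TensorDesc.desc_tmul]
  refine (S.step_app n U _).trans ?_
  show S.resR n U (R.ev (n + 1) U x * R.ev (n + 1) U y) = R.ev n U x * R.ev n U y
  rw [map_mul, ev_step, ev_step]

/-- The multiplication. -/
def μ : CohB1.tensorMod R.E R.E ⟶ R.E := (R.exists_μ hb).choose

/-- The product of sections. -/
def mul (U : X.Opens) (x y : Γ(R.E, U)) : Γ(R.E, U) := (R.μ hb).app U (SecTwist.tmul R.E R.E U x y)

theorem ev_mul (n : ℕ) (U : X.Opens) (x y : Γ(R.E, U)) :
    R.ev n U (R.mul hb U x y) = R.ev n U x * R.ev n U y := by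
  refine (congr(($((R.exists_μ hb).choose_spec n)).app U (SecTwist.tmul R.E R.E U x y))).trans ?_
  exact TensorDesc.desc_tmul (R.bil n) U x y

theorem mul_add (U : X.Opens) (x y z : Γ(R.E, U)) :
    R.mul hb U x (y + z) = R.mul hb U x y + R.mul hb U x z :=
  (congrArg ((R.μ hb).app U) (tmul_add_right U x y z)).trans (map_add ((R.μ hb).app U).hom _ _)

theorem add_mul (U : X.Opens) (x y z : Γ(R.E, U)) :
    R.mul hb U (x + y) z = R.mul hb U x z + R.mul hb U y z :=
  (congrArg ((R.μ hb).app U) (tmul_add_left U x y z)).trans (map_add ((R.μ hb).app U).hom _ _)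

theorem smul_mul (U : X.Opens) (c : Γ(X, U)) (x y : Γ(R.E, U)) : R.mul hb U (c • x) y = c • R.mul hb U x y :=
  (congrArg ((R.μ hb).app U) (tmul_smul_left U c x y)).trans ((R.μ hb).app_smul c _)

theorem mul_smul' (U : X.Opens) (c : Γ(X, U)) (x y : Γ(R.E, U)) : R.mul hb U x (c • y) = c • R.mul hb U x y :=
  (congrArg ((R.μ hb).app U) (tmul_smul_right U c x y)).trans ((R.μ hb).app_smul c _)

theorem mul_res {U V : X.Opens} (h : V ≤ U) (x y : Γ(R.E, U)) :
    R.E.presheaf.map (homOfLE h).op (R.mul hb U x y) =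
      R.mul hb V (R.E.presheaf.map (homOfLE h).op x) (R.E.presheaf.map (homOfLE h).op y) :=
  (QCoh.map_app_comm (R.μ hb) (homOfLE h) _).symm.trans
    (congrArg ((R.μ hb).app V) (SecTwist.map_tmul R.E R.E (homOfLE h) x y))

/-- The product of sections as a bilinear family. -/
def mulBil : TensorDesc.Bilin R.E R.E R.E where
  b U x y := R.mul hb U x y
  add_left U x x' y := R.add_mul hb U x x' y
  smul_left U c x y := R.smul_mul hb U c x y
  add_right U x y y' := R.mul_add hb U x y y'
  smul_right U c x y := R.mul_smul' hb U c x y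
  res h x y := R.mul_res hb h x y

/-- The multiplication with the factors exchanged. -/
def swapBil : TensorDesc.Bilin R.E R.E R.E where
  b U x y := R.mul hb U y x
  add_left U x x' y := R.mul_add hb U y x x'
  smul_left U c x y := R.mul_smul' hb U c y x
  add_right U x y y' := R.add_mul hb U y y' x
  smul_right U c x y := R.smul_mul hb U c y x
  res h x y := R.mul_res hb h y x

theorem mul_comm' (U : X.Opens) (x y : Γ(R.E, U)) : R.mul hb U x y = R.mul hb U y x := by
  have h : R.μ hb = TensorDesc.desc (R.swapBil hb) :=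
    R.hom_ext hb (isFinLocFree_tensorMod R.lf R.lf) fun n => tensor_hom_ext fun V a b => by
      show R.ev n V (R.mul hb V a b) =
        R.ev n V ((TensorDesc.desc (R.swapBil hb)).val.app (op V) (SecTwist.tmul _ _ V a b))
      rw [TensorDesc.desc_tmul]
      show _ = R.ev n V (R.mul hb V b a)
      rw [ev_mul, ev_mul, mul_comm]
  exact congr(($h).app U (SecTwist.tmul R.E R.E U x y)).trans (TensorDesc.desc_tmul (R.swapBil hb) U x y)

include hb in
theorem exists_η : ∃ φ : Coh.structureModule X ⟶ R.E, ∀ n, φ ≫ R.r n = S.unitG n :=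
  R.exists_lift hb (H9Misc.LocFreeHomTensor.isFinLocFree_structure X) _ S.unitG_step

/-- The unit map. -/
def η : Coh.structureModule X ⟶ R.E := (R.exists_η hb).choose

/-- The structure map on sections. -/
def emb (U : X.Opens) (c : Γ(X, U)) : Γ(R.E, U) := (R.η hb).app U c

theorem ev_emb (n : ℕ) (U : X.Opens) (c : Γ(X, U)) : R.ev n U (R.emb hb U c) = (S.b n).app U c :=
  congr(($((R.exists_η hb).choose_spec n)).app U c)

theorem emb_res {U V : X.Opens} (h : V ≤ U) (c : Γ(X, U)) :
    R.E.presheaf.map (homOfLE h).op (R.emb hb U c) = R.emb hb V (X.presheaf.map (homOfLE h).op c) :=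
  (QCoh.map_app_comm (R.η hb) (homOfLE h) c).symm

theorem smul_emb (U : X.Opens) (c d : Γ(X, U)) : c • R.emb hb U d = R.emb hb U (c * d) :=
  ((R.η hb).app_smul c (d : Γ(Coh.structureModule X, U))).symm

/-- Multiplication by one, as a map of modules. -/
def oneMulHom : R.E ⟶ R.E :=
  ⟨PresheafOfModules.homMk
    { app := fun U => AddCommGrpCat.ofHom
        (AddMonoidHom.mk' (fun x : Γ(R.E, U.unop) => R.mul hb U.unop (R.emb hb U.unop 1) x) (R.mul_add hb U.unop _))
      naturality := fun U V i => by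
        ext z
        show R.mul hb V.unop (R.emb hb V.unop 1) (R.E.presheaf.map (homOfLE i.unop.le).op z) =
          R.E.presheaf.map (homOfLE i.unop.le).op (R.mul hb U.unop (R.emb hb U.unop 1) z)
        rw [mul_res, emb_res, map_one] }
    fun U r m => R.mul_smul' hb U.unop r _ m⟩

theorem one_mul' (U : X.Opens) (x : Γ(R.E, U)) : R.mul hb U (R.emb hb U 1) x = x := by
  have h : R.oneMulHom hb = 𝟙 R.E := R.hom_ext hb R.lf fun n => QCoh.hom_ext_app fun V z => by
    show R.ev n V (R.mul hb V (R.emb hb V 1) z) = R.ev n V z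
    rw [ev_mul, ev_emb, map_one, one_mul]
  exact congr(($h).app U x)

theorem mul_assoc' (U : X.Opens) (a b c : Γ(R.E, U)) :
    R.mul hb U (R.mul hb U a b) c = R.mul hb U a (R.mul hb U b c) := by
  let P : CohB1.PMod X := CohB1.toPMod R.E
  let m : P ⊗ P ⟶ P := TensorDesc.pre (R.mulBil hb)
  let Q : CohB1.PMod X := (P ⊗ P) ⊗ P
  let f₁ : Q ⟶ P := (m ▷ P) ≫ m
  let f₂ : Q ⟶ P := (α_ P P P).hom ≫ (P ◁ m) ≫ m
  let adj := PresheafOfModules.sheafificationAdjunction.{u, u, u, u}
    (J := Opens.grothendieckTopology X) (𝟙 X.ringCatSheaf.obj)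
  have hlf : FlatMod.IsFinLocFree (DCoh.shP.obj Q) :=
    H23.PullPush.isFinLocFree_of_iso
      (@asIso _ _ _ _ (DCoh.shP.map (KFlatLib.unitShP (P ⊗ P) ▷ P))
        (KFlatLib.isIso_shP_map_unit_whiskerRight _ _)).symm
      (isFinLocFree_tensorMod (isFinLocFree_tensorMod R.lf R.lf) R.lf)
  have key : ((adj.homEquiv (show X.PresheafOfModules from Q) R.E).symm f₁) =
      ((adj.homEquiv (show X.PresheafOfModules from Q) R.E).symm f₂) := by
    refine R.hom_ext hb hlf fun n => ?_
    rw [← adj.homEquiv_naturality_right_symm, ← adj.homEquiv_naturality_right_symm]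
    refine congrArg _ (PresheafOfModules.hom_ext fun V => ?_)
    refine ModuleCat.MonoidalCategory.tensor_ext₃' fun x y z => ?_
    show R.ev n V.unop (R.mul hb V.unop (R.mul hb V.unop x y) z) =
      R.ev n V.unop (R.mul hb V.unop x (R.mul hb V.unop y z))
    rw [ev_mul, ev_mul, ev_mul, ev_mul, mul_assoc]
  have h12 : f₁ = f₂ := (adj.homEquiv (show X.PresheafOfModules from Q) R.E).symm.injective key
  exact congrArg (fun φ => (PresheafOfModules.Hom.app φ (op U)).hom
    (show ↥(Q.obj (op U)) from TensorProduct.tmul _ (TensorProduct.tmul _ a b) c)) h12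

end FSys.Alg

end Groth.Agent.GrLib8.LeffExt
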