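import Groth.Agent.GrLib8.LeffExt.Mult
import Groth.Agent.RelSpecX.AffHom
import Groth.Agent.RelSpecX.Gamma

/-!
# The finite scheme of the algebraisation
-/

set_option autoImplicit false
set_option linter.style.haveILetI false
set_option linter.unusedSectionVars false
set_option backward.isDefEq.respectTransparency false
set_option backward.isDefEq.respectTransparency.types false
set_option maxHeartbeats 400000

universe u

open CategoryTheory CategoryTheory.Limits AlgebraicGeometry TopologicalSpace Opposite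

noncomputable section

namespace Groth.Agent.GrLib8.LeffExt

open Groth.Agent

variable {X : Scheme.{u}} [IsLocallyNoetherian X] {J : X.IdealSheafData}

namespace FSys.Alg

variable {S : FSys J} (R : S.Alg) (hb : ∀ D : X.Modules, FlatMod.IsFinLocFree D → Lef.HomToFormalBijective J D)

/-- Sections form a commutative ring. -/
@[reducible] def secRing (U : X.Opens) : CommRing Γ(R.E, U) :=
  { (inferInstance : AddCommGroup Γ(R.E, U)) with
    mul := (R.mul hb) U
    one := (R.emb hb) U 1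
    mul_assoc := (R.mul_assoc' hb) U
    one_mul := (R.one_mul' hb) U
    mul_one := fun x => ((R.mul_comm' hb) U x _).trans ((R.one_mul' hb) U x)
    left_distrib := (R.mul_add hb) U
    right_distrib := (R.add_mul hb) U
    zero_mul := fun x => by
      show (R.mul hb) U 0 x = 0
      have h := (R.add_mul hb) U 0 0 x
      rw [add_zero] at h
      exact (left_eq_add.1 h)
    mul_zero := fun x => by
      show (R.mul hb) U x 0 = 0
      have h := (R.mul_add hb) U x 0 0
      rw [add_zero] at h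
      exact (left_eq_add.1 h)
    mul_comm := (R.mul_comm' hb) U }

/-- The presheaf of algebras. -/
def Bp : TopCat.Presheaf CommRingCat.{u} X.carrier where
  obj U := @CommRingCat.of Γ(R.E, U.unop) ((R.secRing hb) U.unop)
  map {U V} i :=
    letI := (R.secRing hb) U.unop
    letI := (R.secRing hb) V.unop
    CommRingCat.ofHom
      { toFun := R.E.presheaf.map i
        map_zero' := map_zero (R.E.presheaf.map i).hom
        map_add' := map_add (R.E.presheaf.map i).hom
        map_one' := ((R.emb_res hb) i.unop.le 1).trans (congrArg ((R.emb hb) V.unop) (map_one _))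
        map_mul' := fun x y => (R.mul_res hb) i.unop.le x y }
  map_id U := by
    refine CommRingCat.hom_ext (RingHom.ext fun x => ?_)
    exact congr($(R.E.presheaf.map_id U) x)
  map_comp i j := by
    refine CommRingCat.hom_ext (RingHom.ext fun x => ?_)
    exact congr($(R.E.presheaf.map_comp i j) x)

theorem isSheaf_Bp : (R.Bp hb).IsSheaf := by
  refine (TopCat.Presheaf.isSheaf_iff_isSheaf_comp (forget CommRingCat) _).mpr ?_
  have e : (R.Bp hb) ⋙ forget CommRingCat ≅ R.E.presheaf ⋙ forget AddCommGrpCat :=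
    NatIso.ofComponents (fun _ => Iso.refl _) (by intros; rfl)
  exact TopCat.Presheaf.isSheaf_of_iso e.symm
    ((TopCat.Presheaf.isSheaf_iff_isSheaf_comp (forget AddCommGrpCat) _).mp R.E.isSheaf)

theorem emb_mul_eq_smul (U : X.Opens) (c : Γ(X, U)) (x : Γ(R.E, U)) : (R.mul hb) U ((R.emb hb) U c) x = c • x := by
  rw [← mul_one c, ← smul_emb, smul_mul, one_mul']
  simp

/-- The structure map. -/
def strB : X.presheaf ⟶ (R.Bp hb) where
  app U :=
    letI := (R.secRing hb) U.unop
    CommRingCat.ofHom (show Γ(X, U.unop) →+* Γ(R.E, U.unop) from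
      { toFun := (R.emb hb) U.unop
        map_zero' := map_zero ((R.η hb).app U.unop).hom
        map_add' := map_add ((R.η hb).app U.unop).hom
        map_one' := rfl
        map_mul' := fun c d => ((R.smul_emb hb) U.unop c d).symm.trans ((R.emb_mul_eq_smul hb) U.unop c _).symm })
  naturality U V i := by
    refine CommRingCat.hom_ext (RingHom.ext fun x => ?_)
    exact ((R.emb_res hb) i.unop.le x).symm

theorem isQC_B : RelSpec.IsQC (R.Bp hb) (R.strB hb) := by
  intro U hU r
  set D := X.basicOpen r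
  letI := (R.secRing hb) U
  letI := (R.secRing hb) D
  let ρ : Γ(R.E, U) →+* Γ(R.E, D) := ((R.Bp hb).map (homOfLE (X.basicOpen_le r)).op).hom
  letI := ρ.toAlgebra
  have hpow : ∀ (W : X.Opens) (c : Γ(X, W)) (k : ℕ), ((R.strB hb).app (op W)).hom c ^ k = ((R.strB hb).app (op W)).hom (c ^ k) :=
    fun W c k => (((R.strB hb).app (op W)).hom.map_pow c k).symm
  show IsLocalization.Away ((R.emb hb) U r) Γ(R.E, D)
  have hnat : ∀ a : Γ(X, U), (R.emb hb) D (X.presheaf.map (homOfLE (X.basicOpen_le r)).op a) = ρ ((R.emb hb) U a) :=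
    fun a => ((R.emb_res hb) (X.basicOpen_le r) a).symm
  have hek : ∀ k : ℕ, (R.emb hb) U (r ^ k) = (R.emb hb) U r ^ k := fun k => ((R.strB hb).app (op U)).hom.map_pow r k
  refine (isLocalization_iff _ _).mpr ⟨fun ⟨_, n, rfl⟩ => ?_, fun z => ?_, fun {x y} hxy => ?_⟩
  · show IsUnit (ρ ((R.emb hb) U r ^ n))
    rw [map_pow, ← hnat]
    exact ((RingedSpace.isUnit_res_basicOpen X.toRingedSpace r).map ((R.strB hb).app (op D)).hom).pow n
  · obtain ⟨n, t, ht⟩ := QCoh.exists_pow_smul_eq_map (QCoh.isQCoh_of_isFinLocFree R.lf) hU r z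
    refine ⟨(t, ⟨_, n, rfl⟩), ?_⟩
    show (R.mul hb) D z (ρ ((R.emb hb) U r ^ n)) = ρ t
    rw [← hek, ← hnat, map_pow, (R.mul_comm' hb) D, emb_mul_eq_smul]
    exact ht.symm
  · have h0 : ρ (x - y) = 0 := by rw [map_sub]; exact sub_eq_zero.mpr hxy
    obtain ⟨n, hn⟩ := QCoh.exists_pow_smul_eq_zero (QCoh.isQCoh_of_isFinLocFree R.lf) hU r (x - y) h0
    refine ⟨⟨_, n, rfl⟩, ?_⟩
    show (R.mul hb) U ((R.emb hb) U r ^ n) x = (R.mul hb) U ((R.emb hb) U r ^ n) y
    rw [← hek, emb_mul_eq_smul, emb_mul_eq_smul, ← sub_eq_zero, ← smul_sub]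
    exact hn

/-- The algebra. -/
def B : RelSpec.QCAlg X := ⟨(R.Bp hb), (R.isSheaf_Bp hb), (R.strB hb), (R.isQC_B hb)⟩

/-- Evaluation at a level, as a map of algebras. -/
def evNat (n : ℕ) : (R.Bp hb) ⟶ (S.b n).base _* (S.R n).presheaf where
  app U :=
    letI := (R.secRing hb) U.unop
    CommRingCat.ofHom (show Γ(R.E, U.unop) →+* Γ(S.R n, S.b n ⁻¹ᵁ U.unop) from
      { toFun := R.ev n U.unop
        map_zero' := map_zero ((R.r n).app U.unop).hom
        map_add' := R.ev_add n U.unop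
        map_one' := ((R.ev_emb hb) n U.unop 1).trans (map_one _)
        map_mul' := (R.ev_mul hb) n U.unop })
  naturality U V i := by
    refine CommRingCat.hom_ext (RingHom.ext fun x => ?_)
    exact R.ev_res n i.unop.le x

theorem strB_evNat (n : ℕ) : (R.strB hb) ≫ (R.evNat hb) n = (S.b n).c := by
  refine NatTrans.ext (funext fun U => CommRingCat.hom_ext (RingHom.ext fun x => ?_))
  exact (R.ev_emb hb) n U.unop x

/-- The map of algebras defining `Y n ⟶ W`. -/
def ω (n : ℕ) : AffAlg.algHoms (R.B hb).π (S.b n) :=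
  ⟨(R.B hb).gammaMap ≫ (R.evNat hb) n, by
    rw [← Category.assoc]
    exact (congrArg (· ≫ (R.evNat hb) n) (R.B hb).π_c_gammaMap).trans ((R.strB_evNat hb) n)⟩

instance isIso_gamma (U : (Opens X)ᵒᵖ) : IsIso ((R.B hb).gammaMap.app U) :=
  haveI : IsIso (R.B hb).gammaMap := RelSpecX.isIso_gammaMap (R.B hb)
  ((asIso (R.B hb).gammaMap).app U).isIso_hom

/-- The map of a level into the algebraisation. -/
def toW (n : ℕ) : S.R n ⟶ (R.B hb).spec := RelSpecX.ofAlgHom (R.B hb).π (S.b n) ((R.ω hb) n)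

theorem toW_π (n : ℕ) : (R.toW hb) n ≫ (R.B hb).π = S.b n := RelSpecX.ofAlgHom_comp _ _ _

instance (n : ℕ) : IsClosedImmersion ((R.toW hb) n) := by
  refine RelSpecX.isClosedImmersion_of_surjective (R.B hb).π (S.b n) ((R.toW hb) n) ((R.toW_π hb) n) fun U => ?_
  show Function.Surjective
    ((AffAlg.algHom (R.B hb).π (S.b n) (RelSpecX.ofAlgHom (R.B hb).π (S.b n) ((R.ω hb) n)) ((R.toW_π hb) n)).app (op U.1)).hom
  rw [RelSpecX.algHom_ofAlgHom]
  have h1 : Function.Surjective ((R.B hb).gammaMap.app (op U.1)).hom :=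
    (ConcreteCategory.bijective_of_isIso ((R.B hb).gammaMap.app (op U.1))).2
  exact (R.surj n U.1 U.2).comp h1

theorem bijective_gamma (U : X.Opens) : Function.Bijective ((R.B hb).gammaMap.app (op U)).hom :=
  ConcreteCategory.bijective_of_isIso ((R.B hb).gammaMap.app (op U))

theorem gamma_app_π (U : X.Opens) (c : Γ(X, U)) : ((R.B hb).gammaMap.app (op U)).hom ((R.B hb).π.app U c) = (R.emb hb) U c :=
  congr($((R.B hb).π_c_gammaMap).app (op U) c)

theorem toW_app_eq_zero_iff (n : ℕ) (U : X.affineOpens) (w : Γ((R.B hb).spec, (R.B hb).π ⁻¹ᵁ U.1)) :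
    ((R.toW hb) n).app ((R.B hb).π ⁻¹ᵁ U.1) w = 0 ↔ R.ev n U.1 (((R.B hb).gammaMap.app (op U.1)).hom w) = 0 := by
  have e : S.b n ⁻¹ᵁ U.1 = (R.toW hb) n ⁻¹ᵁ ((R.B hb).π ⁻¹ᵁ U.1) := by
    rw [← Scheme.Hom.comp_preimage, (R.toW_π hb)]
  have h := RelSpecX.appLE_ofAlgHom (R.B hb).π (S.b n) ((R.ω hb) n) U e.le
  have h2 : (S.R n).presheaf.map (homOfLE e.le).op (((R.toW hb) n).app ((R.B hb).π ⁻¹ᵁ U.1) w) =
      R.ev n U.1 (((R.B hb).gammaMap.app (op U.1)).hom w) := congr($h w)
  haveI : IsIso (homOfLE e.le) := ⟨homOfLE e.ge, rfl, rfl⟩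
  rw [← h2]
  exact (map_eq_zero_iff _ (ConcreteCategory.bijective_of_isIso
    ((S.R n).presheaf.map (homOfLE e.le).op)).1).symm

theorem isPullback_toW (n : ℕ) : IsPullback ((R.toW hb) n) (S.a n) (R.B hb).π (ιZ J n) := by
  let j := ιZ J n
  let P := pullback (R.B hb).π j
  let i₂ : P ⟶ (R.B hb).spec := pullback.fst _ _
  haveI : IsClosedImmersion i₂ := MorphismProperty.pullback_fst _ _ inferInstance
  let l : S.R n ⟶ P := pullback.lift ((R.toW hb) n) (S.a n) ((R.toW_π hb) n)
  have hl : l ≫ i₂ = (R.toW hb) n := pullback.lift_fst _ _ _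
  have hker : i₂.ker = ((R.toW hb) n).ker := by
    refine Scheme.IdealSheafData.ext_of_iSup_eq_top
      (fun U : X.affineOpens => ⟨(R.B hb).π ⁻¹ᵁ U.1, U.2.preimage (R.B hb).π⟩)
      (IsOpenCover.comap (iSup_affineOpens_eq_top X) (R.B hb).π.base.1) fun U => ?_
    rw [FComplLib.ker_of_isPullback (IsPullback.of_hasPullback (R.B hb).π j),
      Scheme.IdealSheafData.ker_subschemeι,
      ModPairLib.ideal_comap _ (R.B hb).π U ⟨_, U.2.preimage (R.B hb).π⟩ le_rfl, FComplLib.ideal_ker]
    ext w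
    rw [RingHom.mem_ker]
    refine Iff.trans ?_ ((R.toW_app_eq_zero_iff hb) n U w).symm
    let γ : Γ((R.B hb).spec, (R.B hb).π ⁻¹ᵁ U.1) → Γ(R.E, U.1) := fun v => ((R.B hb).gammaMap.app (op U.1)).hom v
    show _ ↔ (R.r n).app U.1 (γ w) = 0
    rw [R.r_eq_zero_iff n U.2]
    letI := (R.secRing hb) U.1
    let g : Γ((R.B hb).spec, (R.B hb).π ⁻¹ᵁ U.1) →+* Γ(R.E, U.1) := ((R.B hb).gammaMap.app (op U.1)).hom
    let e : Γ(X, U.1) →+* Γ(R.E, U.1) := ((R.strB hb).app (op U.1)).hom
    have hs : ((R.B hb).π.appLE U.1 ((R.B hb).π ⁻¹ᵁ U.1) le_rfl).hom = ((R.B hb).π.app U.1).hom := by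
      rw [Scheme.Hom.app_eq_appLE]
    have hg : g.comp ((R.B hb).π.app U.1).hom = e := RingHom.ext ((R.gamma_app_π hb) U.1)
    let K := (J ^ (n + 1)).ideal U
    have h1 : w ∈ K.map ((R.B hb).π.appLE U.1 ((R.B hb).π ⁻¹ᵁ U.1) le_rfl).hom ↔ g w ∈ K.map e := by
      rw [hs, ← hg, ← Ideal.map_map]
      refine ⟨Ideal.mem_map_of_mem g, fun h => ?_⟩
      obtain ⟨v, hv, hvw⟩ := (Ideal.mem_map_iff_of_surjective g ((R.bijective_gamma hb) U.1).2).1 h
      exact ((R.bijective_gamma hb) U.1).1 hvw ▸ hv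
    refine h1.trans ⟨fun h => ?_, fun h => ?_⟩
    · suffices ∀ z ∈ K.map e, z ∈ K • (⊤ : Submodule Γ(X, U.1) Γ(R.E, U.1)) from this _ h
      intro z hz
      induction hz using Submodule.span_induction with
      | mem z hz =>
        obtain ⟨c, hc, rfl⟩ := hz
        have : e c = c • (R.emb hb) U.1 1 := (((R.smul_emb hb) U.1 c 1).trans (by rw [mul_one]; rfl)).symm
        rw [this]
        exact Submodule.smul_mem_smul hc trivial
      | zero => exact zero_mem _
      | add z z' _ _ hh hh' => exact add_mem hh hh'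
      | smul r z _ hh =>
        show (R.mul hb) U.1 r z ∈ _
        clear h h1
        refine Submodule.smul_induction_on hh (fun c hc v _ => ?_) fun v v' hv hv' => ?_
        · rw [(R.mul_smul' hb)]; exact Submodule.smul_mem_smul hc trivial
        · rw [(R.mul_add hb)]; exact add_mem hv hv'
    · suffices ∀ z ∈ K • (⊤ : Submodule Γ(X, U.1) Γ(R.E, U.1)), z ∈ K.map e from this _ h
      intro z hz
      refine Submodule.smul_induction_on hz (fun c hc v _ => ?_) fun v v' hv hv' => add_mem hv hv'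
      rw [← (R.emb_mul_eq_smul hb)]
      exact Ideal.mul_mem_right v _ (Ideal.mem_map_of_mem e hc)
  haveI : IsIso l := by
    have h : l = IsClosedImmersion.lift i₂ ((R.toW hb) n) hker.le := by
      rw [← cancel_mono i₂, IsClosedImmersion.lift_fac, hl]
    rw [h]
    exact IsClosedImmersion.isIso_lift _ _ hker
  refine (IsPullback.of_hasPullback (R.B hb).π j).of_iso (asIso l).symm (Iso.refl _) (Iso.refl _) (Iso.refl _)
    ?_ ?_ (by simp) (by simp [j])
  · rw [Iso.refl_hom, Category.comp_id, Iso.symm_hom, asIso_inv, IsIso.eq_inv_comp]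
    exact hl
  · rw [Iso.refl_hom, Category.comp_id, Iso.symm_hom, asIso_inv, IsIso.eq_inv_comp]
    exact pullback.lift_snd _ _ _

instance isFinite_π : IsFinite (R.B hb).π := by
  refine (isFinite_iff _).2 ⟨inferInstance, fun U hU => ?_⟩
  letI := (R.secRing hb) U
  haveI := QCoh.finite_sections (CurveDeg.isCoh_of_isFinLocFree R.lf) hU
  let e : Γ(X, U) →+* Γ(R.E, U) := ((R.strB hb).app (op U)).hom
  have hsm : ∀ (c : Γ(X, U)) (x : Γ(R.E, U)), (R.mul hb) U ((R.emb hb) U c) x = c • x := (R.emb_mul_eq_smul hb) U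
  obtain ⟨s, hs⟩ := (Module.Finite.fg_top : (⊤ : Submodule Γ(X, U) Γ(R.E, U)).FG)
  have hspan : ∀ x, x ∈ Submodule.span Γ(X, U) (s : Set Γ(R.E, U)) := fun x => hs ▸ trivial
  have key : ∀ (P : Γ(R.E, U) → Prop), (∀ x ∈ s, P x) → P 0 → (∀ x y, P x → P y → P (x + y)) →
      (∀ (c : Γ(X, U)) (x : Γ(R.E, U)), P x → P ((R.mul hb) U ((R.emb hb) U c) x)) → ∀ x, P x := by
    intro P h1 h2 h3 h4 x
    induction hspan x using Submodule.span_induction with
    | mem x hx => exact h1 x hx
    | zero => exact h2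
    | add x y _ _ h h' => exact h3 x y h h'
    | smul c x _ h => exact hsm c x ▸ h4 c x h
  have hfin : e.Finite := by
    let md : Module Γ(X, U) Γ(R.E, U) := e.toAlgebra.toModule
    let N := @Submodule.span Γ(X, U) Γ(R.E, U) _ _ md (s : Set Γ(R.E, U))
    show @Module.Finite Γ(X, U) Γ(R.E, U) _ _ md
    exact @Module.Finite.of_fg_top _ _ _ _ md ⟨s, eq_top_iff.2 fun x _ => key (fun y => y ∈ N)
      (fun y hy => @Submodule.subset_span _ _ _ _ md _ y hy) (N.zero_mem) (fun y z hy hz => N.add_mem hy hz)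
      (fun c y hy => N.smul_mem c hy) x⟩
  let g : Γ((R.B hb).spec, (R.B hb).π ⁻¹ᵁ U) →+* Γ(R.E, U) := ((R.B hb).gammaMap.app (op U)).hom
  let g' : Γ((R.B hb).spec, (R.B hb).π ⁻¹ᵁ U) ≃+* Γ(R.E, U) := RingEquiv.ofBijective g ((R.bijective_gamma hb) U)
  have h0 : ((R.B hb).π.app U).hom = g'.symm.toRingHom.comp e := by
    refine RingHom.ext fun c => g'.injective ?_
    show g' _ = g' (g'.symm (e c))
    rw [RingEquiv.apply_symm_apply]
    exact (R.gamma_app_π hb) U c
  rw [h0]
  exact (RingHom.Finite.of_surjective _ g'.symm.surjective).comp hfin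

end FSys.Alg

end Groth.Agent.GrLib8.LeffExt
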