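import Groth.Prelude.Def_LefX
import Groth.Prelude.Def_FEt
import Groth.Agent.H26.LefFEt.Quot
import Groth.Agent.Pi1Ext.UHDescent
import Groth.Agent.FComplLib.Sys
import Groth.Agent.FComplLib.IdealComap
import Groth.Agent.QCoh.DevissageP

/-!
# Finite étale covers of all infinitesimal neighbourhoods of a closed subscheme
-/

set_option autoImplicit false
set_option linter.style.haveILetI false
set_option backward.isDefEq.respectTransparency false
set_option backward.isDefEq.respectTransparency.types false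

universe u

open CategoryTheory CategoryTheory.Limits AlgebraicGeometry TopologicalSpace Opposite

noncomputable section

namespace Groth.Agent.GrLib8.LeffExt

open Groth.Agent

variable {X : Scheme.{u}} (J : X.IdealSheafData)

/-- The `n`-th infinitesimal neighbourhood. -/
abbrev Z (n : ℕ) : Scheme.{u} := (J ^ (n + 1)).subscheme

/-- Its inclusion. -/
abbrev ιZ (n : ℕ) : Z J n ⟶ X := (J ^ (n + 1)).subschemeι

/-- The transition. -/
abbrev inc (n : ℕ) : Z J n ⟶ Z J (n + 1) := Scheme.IdealSheafData.inclusion (Lef.pow_succ_le J n)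

theorem inc_ι (n : ℕ) : inc J n ≫ ιZ J (n + 1) = ιZ J n := Scheme.IdealSheafData.inclusion_subschemeι _

theorem surjective_inc (n : ℕ) : Surjective (inc J n) :=
  ⟨(FComplLib.isFormal_completionAlong J n).2⟩

theorem isClosedImmersion_inc (n : ℕ) : IsClosedImmersion (inc J n) :=
  (FComplLib.isFormal_completionAlong J n).1

/-- A compatible system of finite étale covers of the neighbourhoods. -/
structure FSys where
  /-- the levels -/
  R : ℕ → Scheme.{u}
  /-- the covering maps -/
  a : ∀ n, R n ⟶ Z J n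
  /-- the transition maps -/
  t : ∀ n, R n ⟶ R (n + 1)
  cart : ∀ n, IsPullback (t n) (a n) (a (n + 1)) (inc J n)
  fin : ∀ n, IsFinite (a n)
  et : ∀ n, Etale (a n)

variable {J}

instance (S : FSys J) (n : ℕ) : IsFinite (S.a n) := S.fin n
instance (S : FSys J) (n : ℕ) : Etale (S.a n) := S.et n

theorem exists_next {n : ℕ} {R : Scheme.{u}} (a : R ⟶ Z J n) (h1 : IsFinite a) (h2 : Etale a) :
    ∃ (R' : Scheme.{u}) (a' : R' ⟶ Z J (n + 1)) (t : R ⟶ R'),
      IsFinite a' ∧ Etale a' ∧ IsPullback t a a' (inc J n) := by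
  haveI := surjective_inc J n
  haveI := isClosedImmersion_inc J n
  haveI := Pi1Ext.UH.restrict_essSurj (inc J n)
  let V : FEt.Cat (Z J n) := MorphismProperty.Over.mk ⊤ a ⟨h1, h2⟩
  let W := (FEt.restrict (inc J n)).objPreimage V
  let e := (FEt.restrict (inc J n)).objObjPreimageIso V
  let e' : pullback W.hom (inc J n) ≅ R :=
    (MorphismProperty.Over.forget _ _ _ ⋙ CategoryTheory.Over.forget _).mapIso e
  have he : e'.hom ≫ a = pullback.snd W.hom (inc J n) := MorphismProperty.Over.w e.hom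
  refine ⟨W.left, W.hom, e'.inv ≫ pullback.fst _ _, W.prop.1, W.prop.2, ?_⟩
  refine (IsPullback.of_hasPullback W.hom (inc J n)).of_iso e' (Iso.refl _) (Iso.refl _) (Iso.refl _) ?_ ?_
    (by simp) (by simp)
  · simp
  · simp [he]

/-- One stage. -/
structure Stage (J : X.IdealSheafData) (n : ℕ) where
  /-- the cover -/
  R : Scheme.{u}
  /-- its map -/
  a : R ⟶ Z J n
  fin : IsFinite a
  et : Etale a

/-- The next stage. -/
def Stage.next {n : ℕ} (S : Stage J n) : Stage J (n + 1) :=
  ⟨(exists_next S.a S.fin S.et).choose, (exists_next S.a S.fin S.et).choose_spec.choose,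
    (exists_next S.a S.fin S.et).choose_spec.choose_spec.choose_spec.1,
    (exists_next S.a S.fin S.et).choose_spec.choose_spec.choose_spec.2.1⟩

/-- All stages. -/
def Stage.iter (S : Stage J 0) : ∀ n, Stage J n
  | 0 => S
  | n + 1 => (Stage.iter S n).next

/-- The system generated by a cover of `V(J)`. -/
def FSys.ofZero {R : Scheme.{u}} (a : R ⟶ Z J 0) (h1 : IsFinite a) (h2 : Etale a) : FSys J :=
  let S : Stage J 0 := ⟨R, a, h1, h2⟩
  { R := fun n => (S.iter n).R
    a := fun n => (S.iter n).a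
    t := fun n => (exists_next (S.iter n).a (S.iter n).fin (S.iter n).et).choose_spec.choose_spec.choose
    cart := fun n => (exists_next (S.iter n).a (S.iter n).fin (S.iter n).et).choose_spec.choose_spec.choose_spec.2.2
    fin := fun n => (S.iter n).fin
    et := fun n => (S.iter n).et }

/-- Sections of the direct image along a comparison map. -/
def pushStep {P P' Y : Scheme.{u}} {g : P ⟶ Y} {g' : P' ⟶ Y} (t : P ⟶ P') (h : t ≫ g' = g) :
    (Scheme.Modules.pushforward g').obj (Coh.structureModule P') ⟶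
      (Scheme.Modules.pushforward g).obj (Coh.structureModule P) :=
  (Scheme.Modules.pushforward g').map (ClSub.unitToPush t) ≫
    (Scheme.Modules.pushforwardComp t g').hom.app _ ≫ (Scheme.Modules.pushforwardCongr h).hom.app _

theorem pushStep_app {P P' Y : Scheme.{u}} {g : P ⟶ Y} {g' : P' ⟶ Y} (t : P ⟶ P') (h : t ≫ g' = g)
    (U : Y.Opens) (z : Γ(P', g' ⁻¹ᵁ U)) :
    (pushStep t h).app U z = t.appLE (g' ⁻¹ᵁ U) (g ⁻¹ᵁ U) (by rw [← Scheme.Hom.comp_preimage, h]) z := by
  subst h
  simp [pushStep, ClSub.unitToPush, Scheme.Hom.app_eq_appLE]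
  rfl

namespace FSys

variable (S : FSys J)

/-- The maps to the scheme. -/
def b (n : ℕ) : S.R n ⟶ X := S.a n ≫ ιZ J n

instance (n : ℕ) : IsFinite (S.b n) := by unfold b; infer_instance

theorem t_b (n : ℕ) : S.t n ≫ S.b (n + 1) = S.b n := by
  rw [b, b, ← Category.assoc, (S.cart n).w, Category.assoc, inc_ι]

/-- The direct image of the functions of a level. -/
def G (n : ℕ) : X.Modules := (Scheme.Modules.pushforward (S.b n)).obj (Coh.structureModule (S.R n))

/-- The transition of the direct images. -/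
def step (n : ℕ) : S.G (n + 1) ⟶ S.G n := pushStep (S.t n) (S.t_b n)

theorem preimage_b (n : ℕ) (U : X.Opens) : S.t n ⁻¹ᵁ (S.b (n + 1) ⁻¹ᵁ U) = S.b n ⁻¹ᵁ U := by
  rw [← Scheme.Hom.comp_preimage, S.t_b]

/-- Restriction of functions to the previous level. -/
def resR (n : ℕ) (U : X.Opens) : Γ(S.R (n + 1), S.b (n + 1) ⁻¹ᵁ U) ⟶ Γ(S.R n, S.b n ⁻¹ᵁ U) :=
  (S.t n).appLE (S.b (n + 1) ⁻¹ᵁ U) (S.b n ⁻¹ᵁ U) (S.preimage_b n U).ge

theorem step_app (n : ℕ) (U : X.Opens) (z : Γ(S.R (n + 1), S.b (n + 1) ⁻¹ᵁ U)) :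
    (S.step n).app U z = S.resR n U z := pushStep_app _ _ U z

theorem resR_b (n : ℕ) (U : X.Opens) : (S.b (n + 1)).app U ≫ S.resR n U = (S.b n).app U := by
  rw [resR, Scheme.Hom.app_eq_appLE, Scheme.Hom.appLE_comp_appLE, Scheme.Hom.app_eq_appLE]
  simp only [S.t_b]

/-- The functions of the base at a level. -/
def unitG (n : ℕ) : Coh.structureModule X ⟶ S.G n :=
  ⟨PresheafOfModules.homMk
    { app := fun U => AddCommGrpCat.ofHom ((S.b n).app U.unop).hom.toAddMonoidHom
      naturality := fun U V i => by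
        ext z
        exact congr($((S.b n).naturality i) z) }
    fun U r m => map_mul ((S.b n).app U.unop).hom r m⟩

theorem unitG_step (n : ℕ) : S.unitG (n + 1) ≫ S.step n = S.unitG n :=
  QCoh.hom_ext_app fun U z => (S.step_app n U _).trans congr($(S.resR_b n U) z)

end FSys

/-! ### Passage to an open neighbourhood -/

theorem exists_kappa {U : X.Opens} {I : X.IdealSheafData} (hU : (I.support : Set X) ⊆ U)
    {K : (U : Scheme.{u}).IdealSheafData} (h : I.comap U.ι = K) :
    ∃ κ : K.subscheme ⟶ I.subscheme, IsIso κ ∧ κ ≫ I.subschemeι = K.subschemeι ≫ U.ι := by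
  subst h
  refine ⟨H26.LefFEt.subMap U.ι I, ?_, (H26.LefFEt.isPullback_subMap U.ι I).w⟩
  have hP := H26.LefFEt.isPullback_subMap U.ι I
  haveI : IsOpenImmersion (H26.LefFEt.subMap U.ι I) :=
    MorphismProperty.of_isPullback (P := @IsOpenImmersion) hP.flip inferInstance
  haveI : Surjective (H26.LefFEt.subMap U.ι I) := ⟨fun x => by
    have hx : I.subschemeι x ∈ (U : Set X) := hU (I.range_subschemeι.le ⟨x, rfl⟩)
    obtain ⟨y, hy⟩ : I.subschemeι x ∈ Set.range U.ι := by rw [Scheme.Opens.range_ι]; exact hx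
    obtain ⟨z, hz, -⟩ := Scheme.exists_preimage_of_isPullback hP x y hy.symm
    exact ⟨z, hz⟩⟩
  haveI : Epi (H26.LefFEt.subMap U.ι I).base := (TopCat.epi_iff_surjective _).mpr (H26.LefFEt.subMap U.ι I).surjective
  exact IsOpenImmersion.isIso _

/-- The comparison of neighbourhoods. -/
theorem exists_kappa_pow {U : X.Opens} (hU : (J.support : Set X) ⊆ U) (n : ℕ) :
    ∃ κ : Z (J.comap U.ι) n ⟶ Z J n, IsIso κ ∧ κ ≫ ιZ J n = ιZ (J.comap U.ι) n ≫ U.ι :=
  exists_kappa (by rw [Scheme.IdealSheafData.support_pow_succ]; exact hU) (FComplLib.comap_pow U.ι J (n + 1))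

/-- The comparison map. -/
def kappa {U : X.Opens} (hU : (J.support : Set X) ⊆ U) (n : ℕ) : Z (J.comap U.ι) n ⟶ Z J n :=
  (exists_kappa_pow hU n).choose

instance isIso_kappa {U : X.Opens} (hU : (J.support : Set X) ⊆ U) (n : ℕ) : IsIso (kappa hU n) :=
  (exists_kappa_pow hU n).choose_spec.1

theorem kappa_ι {U : X.Opens} (hU : (J.support : Set X) ⊆ U) (n : ℕ) :
    kappa hU n ≫ ιZ J n = ιZ (J.comap U.ι) n ≫ U.ι :=
  (exists_kappa_pow hU n).choose_spec.2

theorem inc_kappa {U : X.Opens} (hU : (J.support : Set X) ⊆ U) (n : ℕ) :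
    inc (J.comap U.ι) n ≫ kappa hU (n + 1) = kappa hU n ≫ inc J n := by
  rw [← cancel_mono (ιZ J (n + 1)), Category.assoc, kappa_ι, ← Category.assoc, inc_ι, Category.assoc, inc_ι,
    kappa_ι]

/-- The system on an open neighbourhood. -/
def FSys.onOpen (S : FSys J) {U : X.Opens} (hU : (J.support : Set X) ⊆ U) : FSys (J.comap U.ι) where
  R := S.R
  a n := S.a n ≫ inv (kappa hU n)
  t := S.t
  cart n := by
    refine (S.cart n).of_iso (Iso.refl _) (Iso.refl _) (asIso (kappa hU n)).symm (asIso (kappa hU (n + 1))).symm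
      (by simp) (by simp) (by simp) ?_
    simp only [Iso.symm_hom, asIso_inv]
    rw [← cancel_mono (kappa hU (n + 1)), Category.assoc, IsIso.inv_hom_id, Category.assoc, inc_kappa,
      IsIso.inv_hom_id_assoc]
    simp
  fin n := inferInstance
  et n := inferInstance

theorem FSys.onOpen_b (S : FSys J) {U : X.Opens} (hU : (J.support : Set X) ⊆ U) (n : ℕ) :
    (S.onOpen hU).b n ≫ U.ι = S.b n := by
  show ((S.a n ≫ inv (kappa hU n)) ≫ ιZ (J.comap U.ι) n) ≫ U.ι = S.a n ≫ ιZ J n
  rw [Category.assoc, Category.assoc, ← kappa_ι hU, IsIso.inv_hom_id_assoc]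

end Groth.Agent.GrLib8.LeffExt
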